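import Mathlib

/-!
A transitive normal subgroup outside which every element fixes at most one point: invariant Sylow subgroups and
congruences for the sizes of their orbits.
-/

set_option autoImplicit false
set_option linter.unusedSectionVars false
set_option linter.style.haveILetI false

namespace Cfsg.Agent.Perm.Derange

open MulAction Pointwise

theorem dvd_card_of_orbits {H α : Type*} [Group H] [MulAction H α] [Finite α] {e : ℕ} (T : Finset α)
    (hT : ∀ h : H, ∀ v ∈ T, h • v ∈ T) (hd : ∀ v ∈ T, e ∣ (orbit H v).ncard) : e ∣ T.card := by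
  classical
  induction T using Finset.strongInduction with
  | H T ih =>
    rcases T.eq_empty_or_nonempty with rfl | ⟨v, hv⟩
    · simp
    · let O : Finset α := (orbit H v).toFinite.toFinset
      have hmem : ∀ w, w ∈ O ↔ w ∈ orbit H v := fun w => Set.Finite.mem_toFinset _
      have hOT : O ⊆ T := fun w hw => by
        obtain ⟨y, rfl⟩ := (hmem w).1 hw
        exact hT y v hv
      have hvO : v ∈ O := (hmem v).2 (mem_orbit_self v)
      have h2 := ih (T \ O) (Finset.sdiff_ssubset hOT ⟨v, hvO⟩) (fun y w hw => by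
        obtain ⟨hw, hwO⟩ := Finset.mem_sdiff.1 hw
        refine Finset.mem_sdiff.2 ⟨hT y w hw, fun e => hwO ((hmem w).2 ?_)⟩
        obtain ⟨z, hz⟩ := (hmem _).1 e
        refine ⟨y⁻¹ * z, ?_⟩
        show (y⁻¹ * z) • v = w
        rw [mul_smul]
        exact inv_smul_eq_iff.2 hz) fun w hw => hd w (Finset.mem_sdiff.1 hw).1
      have h3 : e ∣ O.card := by
        rw [← Set.ncard_eq_toFinset_card]
        exact hd v hv
      rw [← Finset.card_sdiff_add_card_eq_card hOT]
      exact Nat.dvd_add h2 h3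

variable {G Ω : Type*} [Group G] [MulAction G Ω]

/-- The standing hypothesis: `D` is normal and transitive, and an element outside `D` fixes at most one point. -/
structure OneFix (D : Subgroup G) (Ω : Type*) [MulAction G Ω] : Prop where
  normal : D.Normal
  trans : ∀ a b : Ω, ∃ d ∈ D, d • a = b
  uniq : ∀ g : G, g ∉ D → ∀ x y : Ω, g • x = x → g • y = y → x = y

theorem exists_mul_normalizer [Finite G] {r : ℕ} [Fact r.Prime] {L : Subgroup G} (S : Sylow r L) {x : G}
    (hx : x ∈ Subgroup.normalizer (L : Set G)) :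
    ∃ l ∈ L, l * x ∈ Subgroup.normalizer (((S : Subgroup L).map L.subtype : Subgroup G) : Set G) := by
  let φ : MulAut L := L.normalizerMonoidHom ⟨x, hx⟩
  have hφ : ∀ c : L, (φ c : G) = x * c * x⁻¹ := fun c => rfl
  obtain ⟨l, hl⟩ := exists_smul_eq L (φ • S) S
  refine ⟨l, l.2, Subgroup.mem_normalizer_iff.2 ?_⟩
  have key : ∀ c : L, c ∈ (S : Subgroup L) ↔ (l * φ c * l⁻¹ : L) ∈ (S : Subgroup L) := fun c => by
    conv_rhs => rw [← hl]
    simp only [Sylow.coe_subgroup_smul, Sylow.pointwise_smul_def, Subgroup.mem_pointwise_smul_iff_inv_smul_mem,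
      ← map_inv, MulAut.smul_def, MulAut.conj_apply, inv_inv]
    rw [show l⁻¹ * (l * φ c * l⁻¹) * l = φ c by group, MulAut.inv_apply_self]
  intro c
  constructor
  · rintro ⟨c, hc, rfl⟩
    refine ⟨_, (key c).1 hc, ?_⟩
    show (l : G) * (φ c : G) * (l : G)⁻¹ = _
    rw [hφ]
    simp [mul_assoc]
  · rintro ⟨d, hd, hdc⟩
    have hcL : c ∈ L := by
      have h1 : x * c * x⁻¹ ∈ L := by
        have h2 : (l : G)⁻¹ * (d : G) * l ∈ L := mul_mem (mul_mem (inv_mem l.2) d.2) l.2
        rw [show (d : G) = l * x * c * (l * x)⁻¹ from hdc] at h2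
        simpa [mul_assoc] using h2
      exact (Subgroup.mem_normalizer_iff.1 hx c).2 h1
    refine ⟨⟨c, hcL⟩, (key ⟨c, hcL⟩).2 ?_, rfl⟩
    have h3 : l * φ ⟨c, hcL⟩ * l⁻¹ = d := Subtype.ext (by
      show (l : G) * (φ ⟨c, hcL⟩ : G) * (l : G)⁻¹ = _
      rw [hφ, show (d : G) = l * x * c * (l * x)⁻¹ from hdc]
      simp [mul_assoc])
    rw [h3]
    exact hd

variable [Finite G] [Finite Ω] {D : Subgroup G}

theorem OneFix.orbit_eq (h : OneFix D Ω) {X : Subgroup G} (hX : X ⊔ D = ⊤) {a : Ω} (hXa : X ≤ stabilizer G a)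
    {y : Ω} (hy : y ≠ a) : D.index ∣ (orbit X y).ncard := by
  haveI := h.normal
  have h1 : stabilizer X y = (stabilizer G y).subgroupOf X := by
    ext x
    simp [Subgroup.mem_subgroupOf, Subgroup.smul_def]
  have hsD : stabilizer G y ⊓ X ≤ D ⊓ X := fun x hx =>
    ⟨by_contra fun hD => hy (h.uniq x hD y a hx.1 (hXa hx.2)), hx.2⟩
  rw [← MulAction.index_stabilizer, h1, ← Subgroup.relIndex, ← Subgroup.inf_relIndex_right,
    ← Subgroup.relIndex_mul_relIndex _ _ _ hsD inf_le_right, Subgroup.inf_relIndex_right D,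
    ← Subgroup.relIndex_sup_right (H := X) (K := D), hX, Subgroup.relIndex_top_right]
  exact Dvd.intro_left _ rfl

/-- The size of an invariant set containing the common fixed point is one modulo the index. -/
theorem OneFix.dvd_sub (h : OneFix D Ω) {X : Subgroup G} (hX : X ⊔ D = ⊤) {a : Ω} (hXa : X ≤ stabilizer G a)
    (Y : Set Ω) (haY : a ∈ Y) (hY : ∀ x ∈ X, ∀ y ∈ Y, x • y ∈ Y) : D.index ∣ Y.ncard - 1 := by
  classical
  let T : Finset Ω := (Y.toFinite.toFinset).erase a
  have hT : T.card = Y.ncard - 1 := by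
    rw [Finset.card_erase_of_mem ((Set.Finite.mem_toFinset _).2 haY), ← Set.ncard_eq_toFinset_card]
  rw [← hT]
  refine dvd_card_of_orbits (H := X) T (fun x v hv => ?_) fun v hv => ?_
  · simp only [T, Finset.mem_erase, Set.Finite.mem_toFinset] at hv ⊢
    exact ⟨fun e => hv.1 (MulAction.injective (x : G)
      ((show (x : G) • v = a from e).trans (hXa x.2).symm)), hY x x.2 v hv.2⟩
  · exact h.orbit_eq hX hXa (Finset.mem_erase.1 hv).1

theorem card_inf_mul_relIndex (A B : Subgroup G) : Nat.card ↥(B ⊓ A) * A.relIndex B = Nat.card B := by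
  rw [← Subgroup.relIndex_bot_left B, ← Subgroup.inf_relIndex_right A B, inf_comm A B,
    ← Subgroup.relIndex_bot_left (B ⊓ A)]
  exact Subgroup.relIndex_mul_relIndex _ _ _ bot_le inf_le_left

theorem card_orbit_mul (S : Subgroup G) (a : Ω) :
    (orbit S a).ncard * Nat.card ↥(S ⊓ stabilizer G a) = Nat.card S := by
  rw [← card_inf_mul_relIndex (stabilizer G a) S, mul_comm, ← MulAction.index_stabilizer]
  rfl

/-- The stabiliser of some point covers the quotient. -/
theorem OneFix.exists_cover (h : OneFix D Ω) {T : Subgroup G} (hT : T ⊔ D = ⊤) {L : Subgroup G} (hLD : L ≤ D)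
    (hTL : ∀ t ∈ T, t ∈ Subgroup.normalizer (L : Set G)) {a : Ω}
    (hTY : ∀ t ∈ T, ∀ y ∈ orbit L a, t • y ∈ orbit L a) :
    ∃ b ∈ orbit L a, (T ⊓ stabilizer G b) ⊔ D = ⊤ := by
  classical
  haveI := h.normal
  set e := D.index with he
  have hepos : 0 < e := Nat.pos_of_ne_zero Subgroup.index_ne_zero_of_finite
  haveI : Fintype G := Fintype.ofFinite G
  let Y : Finset Ω := (orbit L a).toFinite.toFinset
  have hY : ∀ y, y ∈ Y ↔ y ∈ orbit L a := fun y => Set.Finite.mem_toFinset _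
  let A : Ω → ℕ := fun y => Nat.card ↥(T ⊓ stabilizer G y)
  let B : Ω → ℕ := fun y => Nat.card ↥(T ⊓ stabilizer G y ⊓ D)
  let j : Ω → ℕ := fun y => D.relIndex (T ⊓ stabilizer G y)
  have hAB : ∀ y, B y * j y = A y := fun y => card_inf_mul_relIndex D _
  have hje : ∀ y, j y ∣ e := fun y => Subgroup.relIndex_dvd_index_of_normal D _
  have hgood : ∀ y, j y = e → (T ⊓ stabilizer G y) ⊔ D = ⊤ := fun y hy => by
    refine Subgroup.index_eq_one.1 ?_
    have h1 := Subgroup.relIndex_mul_index (le_sup_right : D ≤ (T ⊓ stabilizer G y) ⊔ D)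
    rw [Subgroup.relIndex_sup_right] at h1
    change j y * _ = e at h1
    rw [hy] at h1
    exact Nat.eq_of_mul_eq_mul_left hepos (h1.trans (mul_one e).symm)
  have hTe : Nat.card ↥(T ⊓ D) * e = Nat.card T := by
    rw [he, ← Subgroup.relIndex_top_right, ← hT, Subgroup.relIndex_sup_right]
    exact card_inf_mul_relIndex D T
  -- exactly one fixed point in the orbit
  let T₀ : Finset G := Finset.univ.filter fun g => g ∈ T ∧ g ∉ D
  have hone : ∀ g ∈ T₀, (Y.filter fun y => g • y = y).card = 1 := fun g hg => by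
    obtain ⟨-, hgT, hgD⟩ := Finset.mem_filter.1 hg
    let Lf : Finset G := Finset.univ.filter (· ∈ L)
    have hle : ∀ l ∈ Lf, (Y.filter fun y => (g * l) • y = y).card ≤ 1 := fun l hl => by
      refine Finset.card_le_one.2 fun y hy z hz => ?_
      refine h.uniq (g * l) (fun e => hgD ?_) y z (Finset.mem_filter.1 hy).2 (Finset.mem_filter.1 hz).2
      simpa using mul_mem e (inv_mem (hLD (Finset.mem_filter.1 hl).2))
    have hYpos : 0 < Y.card := Finset.card_pos.2 ⟨a, (hY a).2 (mem_orbit_self a)⟩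
    have hsum : ∀ y ∈ Y, (Lf.filter fun l => (g * l) • y = y).card = Nat.card ↥(L ⊓ stabilizer G a) := fun y hy => by
      have hy' : g⁻¹ • y ∈ orbit L a := hTY g⁻¹ (inv_mem hgT) y ((hY y).1 hy)
      obtain ⟨⟨l₁, hl₁⟩, e₁⟩ := (hY y).1 hy
      obtain ⟨⟨l₂, hl₂⟩, e₂⟩ := hy'
      have e₁ : l₁ • a = y := e₁
      have e₂ : l₂ • a = g⁻¹ • y := e₂
      have h1 : (Lf.filter fun l => (g * l) • y = y) =
          ((L ⊓ stabilizer G a : Subgroup G) : Set G).toFinite.toFinset.image (fun c => l₂ * c * l₁⁻¹) := by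
        ext l
        simp only [Lf, Finset.mem_filter, Finset.mem_univ, true_and, Finset.mem_image, Set.Finite.mem_toFinset,
          SetLike.mem_coe, Subgroup.mem_inf, mem_stabilizer_iff]
        constructor
        · rintro ⟨hl, hly⟩
          refine ⟨l₂⁻¹ * l * l₁, ⟨mul_mem (mul_mem (inv_mem hl₂) hl) hl₁, ?_⟩, by group⟩
          rw [mul_smul, mul_smul, e₁, inv_smul_eq_iff, e₂, eq_inv_smul_iff, ← mul_smul, hly]
        · rintro ⟨c, ⟨hc, hca⟩, rfl⟩
          refine ⟨mul_mem (mul_mem hl₂ hc) (inv_mem hl₁), ?_⟩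
          rw [mul_smul, mul_smul, mul_smul, inv_smul_eq_iff.2 e₁.symm, hca, e₂, smul_inv_smul]
      rw [h1, Finset.card_image_of_injective _ (fun c c' hcc => by simpa using hcc), ← Set.ncard_eq_toFinset_card]
      rfl
    have htot : ∑ l ∈ Lf, (Y.filter fun y => (g * l) • y = y).card = Lf.card := by
      rw [show Lf.card = Nat.card L from (Fintype.card_subtype _).symm.trans Nat.card_eq_fintype_card.symm,
        ← card_orbit_mul L a]
      simp only [Finset.card_filter]
      rw [Finset.sum_comm, Set.ncard_eq_toFinset_card, ← smul_eq_mul, ← Finset.sum_const]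
      refine Finset.sum_congr rfl fun y hy => ?_
      rw [← Finset.card_filter]
      exact hsum y hy
    have h1 : 1 ∈ Lf := Finset.mem_filter.2 ⟨Finset.mem_univ _, L.one_mem⟩
    by_contra hne
    have hlt : (Y.filter fun y => (g * 1) • y = y).card < 1 := by
      have := hle 1 h1
      rw [mul_one] at this ⊢
      omega
    have := Finset.sum_lt_sum hle ⟨1, h1, hlt⟩
    rw [htot, ← Finset.card_eq_sum_ones] at this
    exact this.ne rfl
  -- counting
  have hcount : ∑ y ∈ Y, (A y - B y) = Nat.card ↥(T ⊓ D) * (e - 1) := by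
    have h1 : T₀.card = Nat.card ↥(T ⊓ D) * (e - 1) := by
      have h2 : T₀ = (Finset.univ.filter (· ∈ T)) \ (Finset.univ.filter (· ∈ T ⊓ D)) := by
        ext g; simp [T₀, Subgroup.mem_inf]; try tauto
      rw [h2, Finset.card_sdiff_of_subset (fun g hg => by
        simp only [Finset.mem_filter, Finset.mem_univ, true_and] at hg ⊢; exact hg.1), Nat.mul_sub_one, hTe,
        Nat.card_eq_fintype_card, Nat.card_eq_fintype_card, Fintype.card_subtype, Fintype.card_subtype]
    rw [← h1, Finset.card_eq_sum_ones, ← Finset.sum_congr rfl hone]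
    simp only [Finset.card_filter]
    rw [Finset.sum_comm]
    refine Finset.sum_congr rfl fun y _ => ?_
    rw [← Finset.card_filter]
    have h2 : T₀.filter (fun g => g • y = y) =
        (Finset.univ.filter (· ∈ T ⊓ stabilizer G y)) \ (Finset.univ.filter (· ∈ T ⊓ stabilizer G y ⊓ D)) := by
      ext g
      simp [T₀, Subgroup.mem_inf, mem_stabilizer_iff]
      tauto
    rw [h2, Finset.card_sdiff_of_subset (fun g hg => by
      simp only [Finset.mem_filter, Finset.mem_univ, true_and] at hg ⊢; exact hg.1)]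
    simp only [A, B, Nat.card_eq_fintype_card, Fintype.card_subtype]
  by_cases he1 : e = 1
  · exact ⟨a, mem_orbit_self a, hgood a (Nat.eq_one_of_dvd_one (he1 ▸ hje a) |>.trans he1.symm)⟩
  by_contra hne
  push Not at hne
  have hlt : ∀ y ∈ Y, j y ≠ e := fun y hy hje' => hne y ((hY y).1 hy) (hgood y hje')
  have hm : 0 < Nat.card ↥(T ⊓ D) := Nat.card_pos
  obtain ⟨y₁, hy₁, hy₁pos⟩ : ∃ y ∈ Y, A y - B y ≠ 0 := by
    by_contra hz
    push Not at hz
    rw [Finset.sum_eq_zero hz] at hcount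
    rcases Nat.mul_eq_zero.1 hcount.symm with h0 | h0 <;> omega
  -- the share of one orbit
  have hshare : ∀ y ∈ Y, ∀ O : Finset Ω, O = Y.filter (fun z => z ∈ orbit T y) →
      (∑ z ∈ O, (A z - B z)) * j y = Nat.card ↥(T ⊓ D) * e * (j y - 1) := fun y hy O hO => by
    have hOeq : (O : Set Ω) = orbit T y := by
      rw [hO]
      ext z
      simp only [Finset.coe_filter, Set.mem_setOf_eq, and_iff_right_iff_imp]
      rintro ⟨⟨t, ht⟩, rfl⟩
      exact (hY _).2 (hTY t ht y ((hY y).1 hy))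
    have hconst : ∀ z ∈ O, A z - B z = A y - B y := fun z hz => by
      obtain ⟨⟨t, ht⟩, htz⟩ : z ∈ orbit T y := hOeq ▸ hz
      have htz : t • y = z := htz
      subst htz
      have hAc : A (t • y) = A y := Nat.card_congr ((MulAut.conj t⁻¹).toEquiv.subtypeEquiv fun q => by
        simp only [Subgroup.mem_inf, mem_stabilizer_iff, MulEquiv.toEquiv_eq_coe, EquivLike.coe_coe,
          MulAut.conj_apply, inv_inv, mul_smul, inv_smul_eq_iff]
        exact and_congr_left fun _ => ⟨fun hq => mul_mem (mul_mem (inv_mem ht) hq) ht,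
          fun hq => by simpa [mul_assoc] using mul_mem (mul_mem ht hq) (inv_mem ht)⟩)
      have hBc : B (t • y) = B y := Nat.card_congr ((MulAut.conj t⁻¹).toEquiv.subtypeEquiv fun q => by
        simp only [Subgroup.mem_inf, mem_stabilizer_iff, MulEquiv.toEquiv_eq_coe, EquivLike.coe_coe,
          MulAut.conj_apply, inv_inv, mul_smul, inv_smul_eq_iff]
        refine and_congr (and_congr_left fun _ => ⟨fun hq => mul_mem (mul_mem (inv_mem ht) hq) ht,
          fun hq => by simpa [mul_assoc] using mul_mem (mul_mem ht hq) (inv_mem ht)⟩)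
          ⟨fun hq => ?_, fun hq => ?_⟩
        · simpa using h.normal.conj_mem q hq t⁻¹
        · simpa [mul_assoc] using h.normal.conj_mem _ hq t)
      rw [hAc, hBc]
    have hOA : O.card * A y = Nat.card ↥(T ⊓ D) * e := by
      rw [hTe, ← card_orbit_mul T y, ← hOeq, Set.ncard_coe_finset]
    rw [Finset.sum_congr rfl hconst, Finset.sum_const, smul_eq_mul, ← hOA, mul_assoc, mul_assoc]
    congr 1
    rw [← hAB y, ← Nat.mul_sub_one]
    ring
  have hj₁ : 2 ≤ j y₁ := by
    by_contra hj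
    have := hAB y₁
    interval_cases h0 : j y₁
    · omega
    · omega
  set O₁ := Y.filter (fun z => z ∈ orbit T y₁) with hO₁
  have h1 := hshare y₁ hy₁ O₁ hO₁
  rw [← Finset.sum_filter_add_sum_filter_not Y (fun z => z ∈ orbit T y₁), ← hO₁] at hcount
  by_cases hex : ∃ y₂ ∈ Y, y₂ ∉ orbit T y₁ ∧ A y₂ - B y₂ ≠ 0
  · obtain ⟨y₂, hy₂, hy₂O, hy₂pos⟩ := hex
    have hj₂ : 2 ≤ j y₂ := by
      by_contra hj
      have := hAB y₂
      interval_cases h0 : j y₂
      · omega
      · omega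
    set O₂ := Y.filter (fun z => z ∈ orbit T y₂) with hO₂
    have h2 := hshare y₂ hy₂ O₂ hO₂
    have hsub : ∑ z ∈ O₂, (A z - B z) ≤ ∑ z ∈ Y.filter (fun z => z ∉ orbit T y₁), (A z - B z) :=
      Finset.sum_le_sum_of_subset fun z hz => by
        simp only [hO₂, Finset.mem_filter] at hz ⊢
        exact ⟨hz.1, fun e => hy₂O (by rw [← orbit_eq_iff.2 e, orbit_eq_iff.2 hz.2]; exact mem_orbit_self y₂)⟩
    set s₁ := ∑ z ∈ O₁, (A z - B z)
    set s₂ := ∑ z ∈ O₂, (A z - B z)
    set m := Nat.card ↥(T ⊓ D)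
    have g1 : m * e ≤ 2 * s₁ := by
      refine Nat.le_of_mul_le_mul_right (a := m * e) (c := j y₁) ?_ (by omega)
      rw [mul_assoc 2, h1]
      calc m * e * j y₁ ≤ m * e * (2 * (j y₁ - 1)) := Nat.mul_le_mul_left _ (by omega)
        _ = 2 * (m * e * (j y₁ - 1)) := by ring
    have g2 : m * e ≤ 2 * s₂ := by
      refine Nat.le_of_mul_le_mul_right (a := m * e) (c := j y₂) ?_ (by omega)
      rw [mul_assoc 2, h2]
      calc m * e * j y₂ ≤ m * e * (2 * (j y₂ - 1)) := Nat.mul_le_mul_left _ (by omega)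
        _ = 2 * (m * e * (j y₂ - 1)) := by ring
    rw [Nat.mul_sub_one] at hcount
    have : m * 2 ≤ m * e := Nat.mul_le_mul_left m (by omega)
    have := hTe
    omega
  · push Not at hex
    rw [Finset.sum_eq_zero (s := Y.filter fun z => z ∉ orbit T y₁) fun z hz =>
      hex z (Finset.mem_filter.1 hz).1 (Finset.mem_filter.1 hz).2, add_zero] at hcount
    rw [hcount, mul_assoc, mul_assoc] at h1
    have h2 := Nat.eq_of_mul_eq_mul_left hm h1
    rw [Nat.sub_one_mul, Nat.mul_sub_one] at h2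
    have : j y₁ ≤ e * j y₁ := Nat.le_mul_of_pos_left _ hepos
    have : e ≤ e * j y₁ := Nat.le_mul_of_pos_right _ (by omega)
    exact hlt y₁ hy₁ (by omega)

/-- An invariant `r`-subgroup below a larger one grows. -/
theorem OneFix.exists_bigger (h : OneFix D Ω) {r : ℕ} [Fact r.Prime] {X P : Subgroup G} {a : Ω} (hPD : P ≤ D)
    (hX : X ⊔ D = ⊤) (hXa : X ≤ stabilizer G a) (hXP : X ≤ Subgroup.normalizer (P : Set G))
    {P' : Subgroup G} (hP'D : P' ≤ D) (hP' : IsPGroup r P') (hlt : P < P') :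
    ∃ S X' : Subgroup G, P < S ∧ S ≤ D ∧ IsPGroup r S ∧ X' ⊔ D = ⊤ ∧ X' ≤ stabilizer G a ∧
      X' ≤ Subgroup.normalizer (S : Set G) := by
  haveI := h.normal
  set L := Subgroup.normalizer (P : Set G) ⊓ D with hL
  have hPL : P ≤ L := le_inf Subgroup.le_normalizer hPD
  -- the normaliser in the larger group
  let R := P' ⊓ Subgroup.normalizer (P : Set G)
  have hRlt : P < R := by
    refine lt_of_le_of_ne (le_inf hlt.le Subgroup.le_normalizer) fun e => ?_
    haveI : Group.IsNilpotent P' := hP'.isNilpotent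
    have h1 : P.subgroupOf P' < ⊤ := lt_top_iff_ne_top.2 fun e => hlt.not_ge (Subgroup.subgroupOf_eq_top.1 e)
    obtain ⟨q, hq, hqP⟩ := SetLike.exists_of_lt (Group.normalizerCondition_of_isNilpotent _ h1)
    refine hqP ?_
    have h2 : (q : G) ∈ R := by
      refine ⟨q.2, Subgroup.mem_normalizer_iff.2 fun c => ⟨fun hc => ?_, fun hc => ?_⟩⟩
      · exact (Subgroup.mem_normalizer_iff.1 hq ⟨c, hlt.le hc⟩).1 hc
      · have hc' : c ∈ P' := by
          simpa [mul_assoc] using mul_mem (mul_mem (inv_mem q.2) (hlt.le hc)) q.2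
        exact (Subgroup.mem_normalizer_iff.1 hq ⟨c, hc'⟩).2 hc
    rw [← e] at h2
    exact h2
  have hRL : R ≤ L := le_inf inf_le_right (inf_le_left.trans hP'D)
  obtain ⟨S, hS⟩ := ((hP'.to_le (inf_le_left : R ≤ P')).comap_subtype (K := L)).exists_le_sylow
  set S₀ := (S : Subgroup L).map L.subtype with hS₀
  have hS₀L : S₀ ≤ L := Subgroup.map_subtype_le _
  have hPS : P < S₀ := lt_of_lt_of_le hRlt fun x hx => ⟨⟨x, hRL hx⟩, hS hx, rfl⟩
  have hXL : X ≤ Subgroup.normalizer (L : Set G) := fun x hx => by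
    refine Subgroup.mem_normalizer_iff.2 fun c => ?_
    simp only [hL, Subgroup.mem_inf]
    refine and_congr ⟨fun hc => mul_mem (mul_mem (hXP hx) hc) (inv_mem (hXP hx)), fun hc => ?_⟩
      ⟨fun hc => h.normal.conj_mem c hc x, fun hc => ?_⟩
    · simpa [mul_assoc] using mul_mem (mul_mem (inv_mem (hXP hx)) hc) (hXP hx)
    · simpa [mul_assoc] using h.normal.conj_mem _ hc x⁻¹
  have hYL : L ⊔ X ≤ stabilizer G (orbit L a) := by
    refine sup_le (fun l hl => ?_) fun x hx => ?_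
    · exact mem_stabilizer_set.2 fun b => ⟨fun ⟨m, hm⟩ => ⟨⟨l, hl⟩⁻¹ * m, by
          show ((⟨l, hl⟩ : L)⁻¹ * m) • a = b
          rw [mul_smul]; exact inv_smul_eq_iff.2 hm⟩,
        fun ⟨m, hm⟩ => ⟨⟨l, hl⟩ * m, by show (⟨l, hl⟩ * m : L) • a = l • b; rw [mul_smul, ← hm]; rfl⟩⟩
    · have key : ∀ x ∈ X, ∀ b ∈ orbit L a, x • b ∈ orbit L a := by
        rintro x hx _ ⟨⟨m, hm⟩, rfl⟩
        refine ⟨⟨x * m * x⁻¹, (Subgroup.mem_normalizer_iff.1 (hXL hx) m).1 hm⟩, ?_⟩
        show (x * m * x⁻¹) • a = x • m • a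
        rw [mul_smul, mul_smul, mem_stabilizer_iff.1 (inv_mem (hXa hx))]
      exact mem_stabilizer_set.2 fun b => ⟨fun hb => by simpa using key x⁻¹ (inv_mem hx) _ hb, key x hx b⟩
  let T := Subgroup.normalizer (S₀ : Set G) ⊓ (L ⊔ X)
  have hT : T ⊔ D = ⊤ := by
    refine top_le_iff.1 (hX ▸ sup_le (fun x hx => ?_) le_sup_right)
    obtain ⟨l, hl, hlx⟩ := exists_mul_normalizer S (hXL hx)
    have h1 : l * x ∈ T := ⟨hlx, mul_mem (Subgroup.mem_sup_left hl) (Subgroup.mem_sup_right hx)⟩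
    have h2 := mul_mem (Subgroup.mem_sup_right (inv_mem hl.2) : l⁻¹ ∈ T ⊔ D)
      (Subgroup.mem_sup_left h1)
    rwa [inv_mul_cancel_left] at h2
  obtain ⟨b, ⟨⟨l, hl⟩, hlb⟩, hb⟩ := h.exists_cover hT inf_le_right
    (fun t ht => sup_le Subgroup.le_normalizer hXL ht.2)
    (a := a) fun t ht y hy => (mem_stabilizer_set.1 (hYL ht.2) y).2 hy
  have hlb : l • a = b := hlb
  let f := (MulAut.conj l⁻¹).toMonoidHom
  refine ⟨S₀.map f, (T ⊓ stabilizer G b).map f, ?_, ?_, S.2.map L.subtype |>.map f, ?_, ?_, ?_⟩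
  · have hlP := Subgroup.mem_normalizer_iff.1 hl.1
    refine lt_of_le_of_ne (fun p hp => ⟨l * p * l⁻¹, hPS.le ((hlP p).1 hp), ?_⟩) fun e => hPS.not_ge fun s hs => ?_
    · simp [f, MulAut.conj_apply, mul_assoc]
    · have h1 : l⁻¹ * s * l ∈ P := by
        rw [e]; exact ⟨s, hs, by simp [f, MulAut.conj_apply]⟩
      have h2 := (hlP _).1 h1
      simpa [mul_assoc] using h2
  · rintro _ ⟨s, hs, rfl⟩
    exact h.normal.conj_mem s (hS₀L hs).2 l⁻¹
  · refine top_le_iff.1 fun g _ => ?_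
    obtain ⟨g', rfl⟩ : ∃ g', g = f g' := ⟨l * g * l⁻¹, by simp [f, MulAut.conj_apply, mul_assoc]⟩
    obtain ⟨t, ht, d, hd, htd⟩ := Subgroup.mem_sup_of_normal_right.1 (hb ▸ Subgroup.mem_top g' : g' ∈ _ ⊔ D)
    rw [← htd, map_mul]
    exact mul_mem (Subgroup.mem_sup_left ⟨t, ht, rfl⟩) (Subgroup.mem_sup_right (h.normal.conj_mem d hd l⁻¹))
  · rintro _ ⟨t, ht, rfl⟩
    show (l⁻¹ * t * (l⁻¹)⁻¹) • a = a
    rw [inv_inv, mul_smul, mul_smul, hlb, mem_stabilizer_iff.1 ht.2, inv_smul_eq_iff, hlb]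
  · rintro _ ⟨t, ht, rfl⟩
    exact Subgroup.le_normalizer_map f ⟨t, ht.1.1, rfl⟩

/-- An invariant Sylow subgroup whose point stabiliser is a Sylow subgroup of the stabiliser. -/
theorem OneFix.exists_good_sylow (h : OneFix D Ω) (r : ℕ) [Fact r.Prime] (a : Ω) :
    ∃ S X : Subgroup G, S ≤ D ∧ IsPGroup r S ∧ X ⊔ D = ⊤ ∧ X ≤ stabilizer G a ∧
      X ≤ Subgroup.normalizer (S : Set G) ∧ Nat.card S = r ^ (Nat.card D).factorization r ∧
      Nat.card ↥(S ⊓ stabilizer G a) = r ^ (Nat.card ↥(D ⊓ stabilizer G a)).factorization r := by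
  haveI := h.normal
  let L := D ⊓ stabilizer G a
  obtain ⟨R⟩ : Nonempty (Sylow r L) := inferInstance
  set R₀ := (R : Subgroup L).map L.subtype with hR₀
  let X₀ := Subgroup.normalizer (R₀ : Set G) ⊓ stabilizer G a
  have hX₀ : X₀ ⊔ D = ⊤ := top_le_iff.1 fun g _ => by
    obtain ⟨d, hd, hda⟩ := h.trans (g • a) a
    have hga : d * g ∈ stabilizer G a := by
      rw [mem_stabilizer_iff, mul_smul, hda]
    have hgN : d * g ∈ Subgroup.normalizer (L : Set G) := Subgroup.mem_normalizer_iff.2 fun c => by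
      simp only [L, Subgroup.mem_inf]
      refine and_congr ⟨fun hc => h.normal.conj_mem c hc _, fun hc => ?_⟩
        ⟨fun hc => mul_mem (mul_mem hga hc) (inv_mem hga), fun hc => ?_⟩
      · simpa [mul_assoc] using h.normal.conj_mem _ hc (d * g)⁻¹
      · simpa [mul_assoc] using mul_mem (mul_mem (inv_mem hga) hc) hga
    obtain ⟨l, hl, hlx⟩ := exists_mul_normalizer R hgN
    have h1 : l * (d * g) ∈ X₀ := ⟨hlx, mul_mem hl.2 hga⟩
    have h2 := mul_mem (Subgroup.mem_sup_right (inv_mem (mul_mem hl.1 hd)) : (l * d)⁻¹ ∈ X₀ ⊔ D)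
      (Subgroup.mem_sup_left h1)
    rwa [← mul_assoc l, inv_mul_cancel_left] at h2
  let 𝒮 : Set (Subgroup G) := {S | R₀ ≤ S ∧ S ≤ D ∧ IsPGroup r S ∧
    ∃ X : Subgroup G, X ⊔ D = ⊤ ∧ X ≤ stabilizer G a ∧ X ≤ Subgroup.normalizer (S : Set G)}
  have h𝒮 : 𝒮.Nonempty :=
    ⟨R₀, le_rfl, (Subgroup.map_subtype_le _).trans inf_le_left, R.2.map _, X₀, hX₀, inf_le_right, inf_le_left⟩
  obtain ⟨S, ⟨hRS, hSD, hSp, X, hX, hXa, hXS⟩, hmax⟩ :=
    𝒮.toFinite.exists_maximalFor (fun S : Subgroup G => Nat.card S) 𝒮 h𝒮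
  obtain ⟨P, hP⟩ := (hSp.comap_subtype (K := D)).exists_le_sylow
  have hcard : Nat.card S = r ^ (Nat.card D).factorization r := by
    rw [← P.card_eq_multiplicity, ← Subgroup.card_map_of_injective D.subtype_injective (K := (P : Subgroup D))]
    by_contra hne
    have hlt : S < (P : Subgroup D).map D.subtype := by
      refine lt_of_le_of_ne (fun x hx => ⟨⟨x, hSD hx⟩, hP hx, rfl⟩) fun e => hne (by rw [← e])
    obtain ⟨S', X', hlt', hS'D, hS'p, h1, h2, h3⟩ :=
      h.exists_bigger hSD hX hXa hXS (Subgroup.map_subtype_le _) (P.2.map _) hlt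
    have hc : Nat.card S < Nat.card S' := by
      refine lt_of_le_of_ne (Subgroup.card_le_of_le hlt'.le) fun e => hlt'.ne ?_
      exact Subgroup.eq_of_le_of_card_ge hlt'.le e.ge
    exact absurd (hmax ⟨hRS.trans hlt'.le, hS'D, hS'p, X', h1, h2, h3⟩ hc.le) (not_le.2 hc)
  refine ⟨S, X, hSD, hSp, hX, hXa, hXS, hcard, ?_⟩
  show _ = r ^ (Nat.card L).factorization r
  rw [← R.card_eq_multiplicity, ← Subgroup.card_map_of_injective L.subtype_injective (K := (R : Subgroup L)),
    ← hR₀]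
  refine congrArg (fun M : Subgroup G => Nat.card M) (le_antisymm (fun x hx => ?_) (le_inf hRS ((Subgroup.map_subtype_le _).trans inf_le_right)))
  have h1 : (S ⊓ stabilizer G a).subgroupOf L = R := by
    refine R.3 ((hSp.to_le inf_le_left).comap_subtype) fun c hc => ?_
    exact ⟨hRS ⟨c, hc, rfl⟩, c.2.2⟩
  exact ⟨⟨x, hSD hx.1, hx.2⟩, by rw [← h1]; exact hx, rfl⟩

/-- The index is a divisor of one less than the `r`-part of the degree. -/
theorem OneFix.index_dvd (h : OneFix D Ω) (r : ℕ) [Fact r.Prime] :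
    D.index ∣ r ^ (Nat.card Ω).factorization r - 1 := by
  rcases isEmpty_or_nonempty Ω with hΩ | ⟨⟨a⟩⟩
  · simp
  obtain ⟨S, X, hSD, -, hX, hXa, hXS, hcard, hstab⟩ := h.exists_good_sylow r a
  have hD : Nat.card Ω * Nat.card ↥(D ⊓ stabilizer G a) = Nat.card D := by
    rw [← card_orbit_mul D a]
    congr 1
    rw [show orbit D a = Set.univ from Set.eq_univ_of_forall fun b => by
      obtain ⟨d, hd, hdb⟩ := h.trans a b
      exact ⟨⟨d, hd⟩, hdb⟩, Set.ncard_univ]
  have hn : (orbit S a).ncard = r ^ (Nat.card Ω).factorization r := by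
    refine Nat.eq_of_mul_eq_mul_right (Nat.card_pos (α := ↥(S ⊓ stabilizer G a))) ?_
    haveI : Nonempty Ω := ⟨a⟩
    rw [card_orbit_mul, hcard, hstab, ← hD, Nat.factorization_mul Nat.card_pos.ne' Nat.card_pos.ne',
      Finsupp.add_apply, pow_add]
  rw [← hn]
  refine h.dvd_sub hX hXa _ (mem_orbit_self a) ?_
  rintro x hx _ ⟨⟨s, hs⟩, rfl⟩
  refine ⟨⟨x * s * x⁻¹, (Subgroup.mem_normalizer_iff.1 (hXS hx) s).1 hs⟩, ?_⟩
  show (x * s * x⁻¹) • a = x • s • a
  rw [mul_smul, mul_smul, mem_stabilizer_iff.1 (inv_mem (hXa hx))]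

end Cfsg.Agent.Perm.Derange
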