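import Cfsg.Agent.Lib.Perm.Derange.LinBase

/-!
Abelian good subgroups act semiregularly; commuting elements of equal prime order in a semiregular subgroup.
-/

set_option autoImplicit false
set_option linter.unusedSectionVars false
set_option linter.style.haveILetI false

namespace Cfsg.Agent.Perm.Derange

open MulAction Pointwise

variable {X V : Type*} [Group X] [CommGroup V] [MulDistribMulAction X V] [Finite X] [Finite V] {K : Subgroup X}

theorem Lin.eq_one_of_pow (h : Lin K V) {v : V} {n : ℕ} (hn : n ∣ Nat.card K) (hv : v ^ n = 1) : v = 1 :=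
  orderOf_eq_one_iff.1 (Nat.eq_one_of_dvd_coprimes h.cop ((orderOf_dvd_of_pow_eq_one hv).trans hn) (orderOf_dvd_natCard v))

theorem sq_card_ineq {c q : ℕ} (hc : 2 ≤ c) (hq : 2 ≤ q) : (c * (q - 1) + 2) ^ 2 ≤ 4 * q ^ c := by
  obtain ⟨p, rfl⟩ : ∃ p, q = p + 1 := ⟨q - 1, by omega⟩
  rw [Nat.add_sub_cancel]
  induction c, hc using Nat.le_induction with
  | base => rw [show 2 * p + 2 = 2 * (p + 1) by ring, mul_pow]; norm_num
  | succ c hc ih =>
    have h1 : ((c + 1) * p + 2) ^ 2 ≤ (p + 1) * (c * p + 2) ^ 2 := by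
      have h3 : 2 * p ≤ c * p := Nat.mul_le_mul_right p hc
      have h4 : 1 ≤ p := by omega
      nlinarith [Nat.mul_le_mul h3 h3, Nat.mul_le_mul h3 h4, sq_nonneg (p : ℤ),
        Nat.mul_le_mul_right (p * p) h4, Nat.mul_le_mul_left ((c * p) * p) h3]
    calc ((c + 1) * p + 2) ^ 2 ≤ (p + 1) * (c * p + 2) ^ 2 := h1
      _ ≤ (p + 1) * (4 * (p + 1) ^ c) := Nat.mul_le_mul_left _ ih
      _ = 4 * (p + 1) ^ (c + 1) := by ring

theorem small_of_orbit {e c q n : ℕ} (he : 2 * e ≤ c * (q - 1)) (hc : 2 ≤ c) (hq : 2 ≤ q) (hn : q ^ c ≤ n) :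
    (e + 1) ^ 2 ≤ n := by
  have h1 := sq_card_ineq hc hq
  have h2 : (2 * e + 2) ^ 2 ≤ (c * (q - 1) + 2) ^ 2 := Nat.pow_le_pow_left (by omega) 2
  nlinarith

theorem smul_fx_iff {A : Subgroup X} (x : X) (v : V) :
    v ∈ fx V A ↔ x • v ∈ fx V (MulAut.conj x • A) := by
  simp only [mem_fx, Subgroup.mem_pointwise_smul_iff_inv_smul_mem]
  constructor
  · intro hv a ha
    have h1 := hv _ ha
    rw [MulAut.smul_def, ← map_inv, MulAut.conj_apply, inv_inv, mul_smul, mul_smul] at h1
    exact inv_smul_eq_iff.1 h1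
  · intro hv a ha
    have h1 := hv (x * a * x⁻¹) (by
      rw [MulAut.smul_def, ← map_inv, MulAut.conj_apply, inv_inv]
      convert ha using 1
      group)
    rwa [mul_smul, mul_smul, inv_smul_smul, smul_left_cancel_iff] at h1

/-- Abelian good subgroups act semiregularly. -/
theorem Lin.sr_abelian (h : Lin K V) {A : Subgroup X} (hA : Good K A) (hcomm : ∀ a ∈ A, ∀ b ∈ A, a * b = b * a) :
    SR V A := by
  classical
  by_contra hbad
  simp only [SR, not_forall, not_or] at hbad
  obtain ⟨a₀, ha₀, v₀, hv₀, hane, hvne⟩ := hbad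
  have hAne : A ≠ ⊥ := fun e => hane (by rw [e] at ha₀; exact Subgroup.mem_bot.1 ha₀)
  -- a maximal stabiliser
  let S : Set V := {v | v ≠ 1 ∧ A ⊓ stabilizer X v ≠ ⊥}
  have hS : S.Nonempty := ⟨v₀, hvne, fun e => hane (Subgroup.mem_bot.1 (e ▸ ⟨ha₀, hv₀⟩))⟩
  obtain ⟨v, hv, hmax⟩ := S.toFinite.exists_maximalFor (fun w => Nat.card ↥(A ⊓ stabilizer X w)) S hS
  set N := Subgroup.normalizer (A : Set X) with hN
  have hAN : A ≤ N := Subgroup.le_normalizer
  -- the conjugate stabilisers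
  have hconj : ∀ x ∈ N, ∀ w : V, A ⊓ stabilizer X (x • w) = MulAut.conj x • (A ⊓ stabilizer X w) := fun x hx w => by
    ext a
    simp only [Subgroup.mem_inf, Subgroup.mem_pointwise_smul_iff_inv_smul_mem, MulAut.smul_def, ← map_inv,
      MulAut.conj_apply, inv_inv, mem_stabilizer_iff, mul_smul, inv_smul_eq_iff]
    exact and_congr_left fun _ => by simpa using Subgroup.mem_normalizer_iff.1 (inv_mem hx) a
  have hcardconj : ∀ (x : X) (B : Subgroup X), Nat.card ↥(MulAut.conj x • B) = Nat.card B := fun x B =>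
    Nat.card_congr (Subgroup.equivSMul (MulAut.conj x) B).toEquiv.symm
  let Bs : Finset (Subgroup X) := (Set.toFinite ((fun x => A ⊓ stabilizer X (x • v)) '' (N : Set X))).toFinset
  have hBs : ∀ B ∈ Bs, ∃ x ∈ N, B = MulAut.conj x • (A ⊓ stabilizer X v) := fun B hB => by
    obtain ⟨x, hx, rfl⟩ := (Set.Finite.mem_toFinset _).1 hB
    exact ⟨x, hx, hconj x hx v⟩
  have hBA : ∀ B ∈ Bs, B ≤ A := fun B hB => by
    obtain ⟨x, -, rfl⟩ := (Set.Finite.mem_toFinset _).1 hB
    exact inf_le_left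
  have hBmax : ∀ B ∈ Bs, ∀ w ∈ fx V B, w ≠ 1 → A ⊓ stabilizer X w = B := fun B hB w hw hw1 => by
    obtain ⟨x, hx, hBx⟩ := hBs B hB
    have hle : B ≤ A ⊓ stabilizer X w := fun b hb => ⟨hBA B hB hb, hw b hb⟩
    have hne : A ⊓ stabilizer X w ≠ ⊥ := fun e => hv.2 (by
      rw [e, le_bot_iff, hBx] at hle
      rw [← Subgroup.card_eq_one, ← hcardconj x, hle, Subgroup.card_bot])
    have h2 : Nat.card ↥(A ⊓ stabilizer X w) ≤ Nat.card B := by
      rw [hBx, hcardconj]
      by_contra hlt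
      exact absurd (hmax ⟨hw1, hne⟩ (le_of_lt (not_le.1 hlt))) hlt
    exact (Subgroup.eq_of_le_of_card_ge hle h2).symm
  -- their fixed points
  let q := Nat.card ↥(fx V (A ⊓ stabilizer X v))
  have hq : ∀ B ∈ Bs, Nat.card ↥(fx V B) = q := fun B hB => by
    obtain ⟨x, -, rfl⟩ := hBs B hB
    exact Nat.card_congr ((MulAction.toPerm x).subtypeEquiv fun w => smul_fx_iff x w).symm
  have hvfix : v ∈ fx V (A ⊓ stabilizer X v) := fun a ha => ha.2
  have hq2 : 2 ≤ q := by
    refine Subgroup.one_lt_card_iff_ne_bot _ |>.2 fun e => hv.1 ?_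
    exact Subgroup.mem_bot.1 (e ▸ hvfix)
  have hB0 : A ⊓ stabilizer X v ∈ Bs := (Set.Finite.mem_toFinset _).2 ⟨1, N.one_mem, by simp⟩
  -- the orbit
  let T : Finset V := Bs.biUnion fun B => ((fx V B : Set V).toFinite.toFinset).erase 1
  have hTcard : T.card ≤ Bs.card * (q - 1) := by
    refine le_trans Finset.card_biUnion_le (le_of_eq ?_)
    rw [Finset.sum_congr rfl (g := fun _ => q - 1) fun B hB => ?_, Finset.sum_const, smul_eq_mul]
    rw [Finset.card_erase_of_mem (by simp [(fx V B).one_mem]), ← Set.ncard_eq_toFinset_card]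
    exact congrArg (· - 1) (hq B hB)
  have horb : (orbit N v).ncard ≤ T.card := by
    rw [← Set.ncard_coe_finset]
    refine Set.ncard_le_ncard (fun w hw => ?_) T.finite_toSet
    obtain ⟨⟨x, hx⟩, rfl⟩ := hw
    refine Finset.mem_biUnion.2 ⟨A ⊓ stabilizer X (x • v), (Set.Finite.mem_toFinset _).2 ⟨x, hx, rfl⟩, ?_⟩
    refine Finset.mem_erase.2 ⟨fun e => hv.1 (MulAction.injective x (e.trans (smul_one x).symm)), ?_⟩
    exact (Set.Finite.mem_toFinset _).2 fun a ha => ha.2
  have he : 2 * K.index ≤ Bs.card * (q - 1) := by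
    have h1 := h.le_orbit hA.2 hAN hA.1 hv.1
    have h2 : 2 * Nat.card ↥(A ⊓ stabilizer X v) ≤ Nat.card A := by
      have hlt : A ⊓ stabilizer X v < A := lt_of_le_of_ne inf_le_left fun e => by
        have hb := h.fx_eq_bot hA hAne
        rw [← e] at hb
        exact hv.1 (Subgroup.mem_bot.1 (hb ▸ hvfix))
      obtain ⟨k, hk⟩ := Subgroup.card_dvd_of_le hlt.le
      have hk1 : k ≠ 1 := fun e => hlt.ne (Subgroup.eq_of_le_of_card_ge hlt.le (by rw [hk, e, mul_one]))
      have hk0 : k ≠ 0 := fun e => Nat.card_pos.ne' (by rw [hk, e, mul_zero])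
      rw [hk, mul_comm]
      exact Nat.mul_le_mul_left _ (by omega)
    have h3 : K.index * (2 * Nat.card ↥(A ⊓ stabilizer X v)) ≤ T.card * Nat.card ↥(A ⊓ stabilizer X v) :=
      (Nat.mul_le_mul_left _ h2).trans (h1.trans (Nat.mul_le_mul_right _ horb))
    rw [← mul_assoc, mul_comm K.index 2] at h3
    exact (Nat.le_of_mul_le_mul_right h3 Nat.card_pos).trans hTcard
  have hc : 2 ≤ Bs.card := by
    by_contra hc
    have huniq : ∀ B ∈ Bs, B = A ⊓ stabilizer X v := fun B hB =>
      Finset.card_le_one.1 (by omega) B hB _ hB0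
    rcases h.invariant_eq hA.2 (fx V (A ⊓ stabilizer X v)) (fun x hx w hw => by
        have h1 := (smul_fx_iff x w).1 hw
        rwa [← hconj x hx v, huniq (A ⊓ stabilizer X (x • v)) ((Set.Finite.mem_toFinset _).2 ⟨x, hx, rfl⟩)] at h1) with h1 | h1
    · exact hv.1 (Subgroup.mem_bot.1 (h1 ▸ hvfix))
    · refine hv.2 ((Subgroup.eq_bot_iff_forall _).2 fun a ha => h.faith a (hA.1 ha.1) fun w => ?_)
      exact (h1 ▸ Subgroup.mem_top w : w ∈ fx V (A ⊓ stabilizer X v)) a ha
  -- independence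
  let f : ((B : Bs) → fx V (B : Subgroup X)) →* V :=
    { toFun := fun w => ∏ B, (w B : V)
      map_one' := by simp
      map_mul' := fun a b => by simp [Finset.prod_mul_distrib] }
  have hinj : Function.Injective f := by
    refine (injective_iff_map_eq_one f).2 fun w hw => ?_
    funext j
    haveI : Fintype (j : Subgroup X) := Fintype.ofFinite _
    let π : V → V := fun x => ∏ b : (j : Subgroup X), (b : X) • x
    have h1 : π (f w) = 1 := by simp [π, hw]
    have h2 : π (f w) = ∏ B : Bs, π (w B : V) := by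
      rw [show f w = ∏ B : Bs, (w B : V) from rfl]
      simp only [π, Finset.smul_prod']
      exact Finset.prod_comm
    rw [h2, Finset.prod_eq_single j (fun B _ hB => ?_) (by simp)] at h1
    · have h3 : π (w j : V) = (w j : V) ^ Fintype.card (j : Subgroup X) := by
        rw [← Finset.card_univ, ← Finset.prod_const]
        exact Finset.prod_congr rfl fun b _ => (w j).2 b b.2
      rw [h3, ← Nat.card_eq_fintype_card] at h1
      exact Subtype.ext (h.eq_one_of_pow (Subgroup.card_dvd_of_le ((hBA _ j.2).trans hA.1)) h1)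
    · by_contra hne
      have hm1 : π (w B : V) ∈ fx V (B : Subgroup X) := fun a ha => by
        simp only [π, Finset.smul_prod', smul_smul]
        refine Finset.prod_congr rfl fun b _ => ?_
        rw [hcomm a (hBA _ B.2 ha) b (hBA _ j.2 b.2), mul_smul, (w B).2 a ha]
      have hm2 : π (w B : V) ∈ fx V (j : Subgroup X) := fun a ha => by
        simp only [π, Finset.smul_prod', smul_smul]
        exact Fintype.prod_equiv (Equiv.mulLeft ⟨a, ha⟩) _ _ fun b => rfl
      exact hB (Subtype.ext ((hBmax _ B.2 _ hm1 hne).symm.trans (hBmax _ j.2 _ hm2 hne)))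
  have hn : q ^ Bs.card ≤ Nat.card V := by
    have h1 := Nat.card_le_card_of_injective f hinj
    rwa [Nat.card_pi, Finset.prod_congr rfl (g := fun _ => q) (fun (B : Bs) _ => hq _ B.2), Finset.prod_const,
      Finset.card_univ, Fintype.card_coe] at h1
  exact absurd (small_of_orbit he hc hq2 hn) (not_le.2 h.big)

theorem prod_pow_smul_fixed {g : X} {s : ℕ} (hg : g ^ s = 1) (v : V) :
    g • ∏ i ∈ Finset.range s, g ^ i • v = ∏ i ∈ Finset.range s, g ^ i • v := by
  rw [Finset.smul_prod']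
  simp_rw [smul_smul, ← pow_succ']
  have h1 := Finset.prod_range_succ' (fun i => g ^ i • v) s
  have h2 := Finset.prod_range_succ (fun i => g ^ i • v) s
  rw [h1, hg, pow_zero] at h2
  exact mul_right_cancel h2

/-- Commuting elements of the same prime order in a semiregular subgroup generate the same subgroup. -/
theorem Lin.mem_zpowers_of_sr (h : Lin K V) {C : Subgroup X} (hC : SR V C) (hCK : C ≤ K) {s : ℕ} (hs : s.Prime)
    {x z : X} (hx : x ∈ C) (hz : z ∈ C) (hxz : Commute x z) (hxs : x ^ s = 1) (hzo : orderOf z = s) :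
    x ∈ Subgroup.zpowers z := by
  by_contra hne
  have hzs : z ^ s = 1 := hzo ▸ pow_orderOf_eq_one z
  have hsK : s ∣ Nat.card K := by
    rw [← hzo, ← Subgroup.orderOf_mk z (hCK hz)]
    exact orderOf_dvd_natCard _
  have hz1 : z ≠ 1 := fun e => hs.ne_one (by rw [← hzo, e, orderOf_one])
  have hF : ∀ g ∈ C, g ≠ 1 → g ^ s = 1 → ∀ v : V, ∏ i ∈ Finset.range s, g ^ i • v = 1 := fun g hg hg1 hgs v =>
    (hC g hg _ (prod_pow_smul_fixed hgs v)).resolve_left hg1
  refine hz1 (h.faith z (hCK hz) fun v => ?_)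
  suffices v = 1 by rw [this, smul_one]
  refine h.eq_one_of_pow hsK ?_
  have h1 : ∏ j ∈ Finset.range s, ∏ i ∈ Finset.range s, (x * z ^ j) ^ i • v = 1 :=
    Finset.prod_eq_one fun j _ => hF _ (mul_mem hx (pow_mem hz j))
      (fun e => hne (by rw [eq_inv_of_mul_eq_one_left e]; exact inv_mem (Subgroup.npow_mem_zpowers z j)))
      (by rw [(hxz.pow_right j).mul_pow, hxs, ← pow_mul, mul_comm j s, pow_mul, hzs, one_pow, mul_one]) v
  rw [Finset.prod_comm, Finset.prod_eq_single 0 (fun i hi hi0 => ?_) (by simp [hs.pos])] at h1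
  · simpa using h1
  · have hzi : z ^ i ≠ 1 := fun e => by
      have := Nat.le_of_dvd (Nat.pos_of_ne_zero hi0) (hzo ▸ orderOf_dvd_of_pow_eq_one e)
      have := Finset.mem_range.1 hi
      omega
    have h2 := hF _ (pow_mem hz i) hzi (by rw [← pow_mul, mul_comm i s, pow_mul, hzs, one_pow]) (x ^ i • v)
    rw [← h2]
    refine Finset.prod_congr rfl fun j _ => ?_
    rw [(hxz.pow_right j).mul_pow, ← pow_mul, mul_comm j i, pow_mul, ((hxz.pow_pow i i).pow_right j).eq, mul_smul]

end Cfsg.Agent.Perm.Derange
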