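import Mathlib

/-!
A finite group acting on an abelian group, with a normal subgroup outside which every element is fixed-point-free:
orbit sizes and invariant subgroups.
-/

set_option autoImplicit false
set_option linter.unusedSectionVars false
set_option linter.style.haveILetI false

namespace Cfsg.Agent.Perm.Derange

open MulAction Pointwise

variable {X V : Type*} [Group X] [CommGroup V] [MulDistribMulAction X V]

/-- The standing hypotheses: `K` is normal, the elements outside `K` are fixed-point-free, `K` is faithful of order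
prime to `V`, and the index of `K` is large. -/
structure Lin (K : Subgroup X) (V : Type*) [CommGroup V] [MulDistribMulAction X V] : Prop where
  normal : K.Normal
  fpf : ∀ x : X, x ∉ K → ∀ v : V, x • v = v → v = 1
  faith : ∀ k ∈ K, (∀ v : V, k • v = v) → k = 1
  cop : (Nat.card K).Coprime (Nat.card V)
  big : Nat.card V < (K.index + 1) ^ 2

variable (V) in
/-- The fixed points of a subgroup. -/
def fx (A : Subgroup X) : Subgroup V where
  carrier := {v | ∀ a ∈ A, a • v = v}
  one_mem' a _ := smul_one a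
  mul_mem' hv hw a ha := by rw [smul_mul', hv a ha, hw a ha]
  inv_mem' hv a ha := by rw [smul_inv', hv a ha]

theorem mem_fx {A : Subgroup X} {v : V} : v ∈ fx V A ↔ ∀ a ∈ A, a • v = v := Iff.rfl

variable (V) in
/-- The subgroup acts semiregularly outside the identity. -/
def SR (Q : Subgroup X) : Prop := ∀ q ∈ Q, ∀ v : V, q • v = v → q = 1 ∨ v = 1

/-- A subgroup of `K` whose normaliser covers the quotient. -/
def Good (K Q : Subgroup X) : Prop := Q ≤ K ∧ Subgroup.normalizer (Q : Set X) ⊔ K = ⊤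

theorem Good.of_le {K Q C : Subgroup X} (h : Good K Q) (hCQ : C ≤ Q)
    (hN : Subgroup.normalizer (Q : Set X) ≤ Subgroup.normalizer (C : Set X)) : Good K C :=
  ⟨hCQ.trans h.1, top_le_iff.1 (h.2 ▸ sup_le_sup_right hN K)⟩

variable [Finite X] [Finite V] {K : Subgroup X}

theorem Lin.index_pos (_h : Lin K V) : 0 < K.index := Nat.pos_of_ne_zero Subgroup.index_ne_zero_of_finite

theorem Lin.relIndex_cover (h : Lin K V) {Y : Subgroup X} (hY : Y ⊔ K = ⊤) : K.relIndex Y = K.index := by
  haveI := h.normal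
  rw [← Subgroup.relIndex_sup_right, hY, Subgroup.relIndex_top_right]

/-- The orbit of a non-identity point under a covering subgroup. -/
theorem Lin.orbit_eq (h : Lin K V) {Y : Subgroup X} (hY : Y ⊔ K = ⊤) {v : V} (hv : v ≠ 1) :
    (orbit Y v).ncard = (stabilizer X v ⊓ Y).relIndex (Y ⊓ K) * K.index := by
  have h1 : stabilizer Y v = (stabilizer X v).subgroupOf Y := by
    ext y
    simp [Subgroup.mem_subgroupOf, Subgroup.smul_def]
  have hsK : stabilizer X v ⊓ Y ≤ Y ⊓ K := fun x hx =>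
    ⟨hx.2, by_contra fun hK => hv (h.fpf x hK v (mem_stabilizer_iff.1 hx.1))⟩
  rw [← MulAction.index_stabilizer, h1, ← Subgroup.relIndex, ← Subgroup.inf_relIndex_right,
    ← Subgroup.relIndex_mul_relIndex _ _ _ hsK inf_le_left, inf_comm Y K, Subgroup.inf_relIndex_right,
    h.relIndex_cover hY]

theorem Lin.dvd_orbit (h : Lin K V) {Y : Subgroup X} (hY : Y ⊔ K = ⊤) {v : V} (hv : v ≠ 1) :
    K.index ∣ (orbit Y v).ncard :=
  ⟨_, by rw [h.orbit_eq hY hv, mul_comm]⟩

theorem Lin.le_orbit (h : Lin K V) {Y Q : Subgroup X} (hY : Y ⊔ K = ⊤) (hQY : Q ≤ Y) (hQK : Q ≤ K) {v : V}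
    (hv : v ≠ 1) :
    K.index * Nat.card Q ≤ (orbit Y v).ncard * Nat.card ↥(Q ⊓ stabilizer X v) := by
  rw [h.orbit_eq hY hv]
  have h1 : (stabilizer X v).relIndex Q ≤ (stabilizer X v ⊓ Y).relIndex (Y ⊓ K) := by
    have h2 : (stabilizer X v ⊓ Y).relIndex Q = (stabilizer X v).relIndex Q := by
      rw [← Subgroup.inf_relIndex_right, inf_assoc, inf_eq_right.2 hQY, Subgroup.inf_relIndex_right]
    rw [← h2]
    exact Subgroup.relIndex_le_of_le_right (le_inf hQY hQK) Subgroup.index_ne_zero_of_finite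
  have h3 : Nat.card ↥(Q ⊓ stabilizer X v) * (stabilizer X v).relIndex Q = Nat.card Q := by
    rw [← Subgroup.relIndex_bot_left Q, ← Subgroup.inf_relIndex_right (stabilizer X v) Q, inf_comm (stabilizer X v) Q,
      ← Subgroup.relIndex_bot_left (Q ⊓ stabilizer X v)]
    exact Subgroup.relIndex_mul_relIndex _ _ _ bot_le inf_le_left
  calc K.index * Nat.card Q = (stabilizer X v).relIndex Q * K.index * Nat.card ↥(Q ⊓ stabilizer X v) := by
        rw [← h3]; ring
    _ ≤ _ := by gcongr

/-- An invariant set avoiding the identity has size divisible by the index. -/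
theorem Lin.dvd_card (h : Lin K V) {Y : Subgroup X} (hY : Y ⊔ K = ⊤) (T : Finset V) (h1 : (1 : V) ∉ T)
    (hT : ∀ y ∈ Y, ∀ v ∈ T, y • v ∈ T) : K.index ∣ T.card := by
  classical
  induction T using Finset.strongInduction with
  | H T ih =>
    rcases T.eq_empty_or_nonempty with rfl | ⟨v, hv⟩
    · simp
    · have hv1 : v ≠ 1 := fun e => h1 (e ▸ hv)
      let O : Finset V := (orbit Y v).toFinite.toFinset
      have hmem : ∀ w, w ∈ O ↔ w ∈ orbit Y v := fun w => Set.Finite.mem_toFinset _
      have hOT : O ⊆ T := fun w hw => by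
        obtain ⟨y, rfl⟩ := (hmem w).1 hw
        exact hT y y.2 v hv
      have hvO : v ∈ O := (hmem v).2 (mem_orbit_self v)
      have hlt : T \ O ⊂ T :=
        Finset.sdiff_ssubset hOT ⟨v, hvO⟩
      have h2 := ih (T \ O) hlt (fun e => h1 (Finset.mem_sdiff.1 e).1) fun y hy w hw => by
        obtain ⟨hw, hwO⟩ := Finset.mem_sdiff.1 hw
        refine Finset.mem_sdiff.2 ⟨hT y hy w hw, fun e => hwO ((hmem w).2 ?_)⟩
        obtain ⟨z, hz⟩ := (hmem _).1 e
        refine ⟨⟨y, hy⟩⁻¹ * z, ?_⟩
        show ((⟨y, hy⟩ : Y)⁻¹ * z) • v = w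
        rw [mul_smul]
        exact inv_smul_eq_iff.2 hz
      have h3 : K.index ∣ O.card := by
        rw [← Set.ncard_eq_toFinset_card]
        exact h.dvd_orbit hY hv1
      rw [← Finset.card_sdiff_add_card_eq_card hOT]
      exact Nat.dvd_add h2 h3

theorem Lin.dvd_sub (h : Lin K V) {Y : Subgroup X} (hY : Y ⊔ K = ⊤) (U : Subgroup V)
    (hU : ∀ y ∈ Y, ∀ v ∈ U, y • v ∈ U) : K.index ∣ Nat.card U - 1 := by
  classical
  let T : Finset V := (Set.Finite.toFinset (Set.toFinite (U : Set V))).erase 1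
  have hT : T.card = Nat.card U - 1 := by
    rw [Finset.card_erase_of_mem (by simp [U.one_mem]), ← Set.ncard_eq_toFinset_card]
    rfl
  rw [← hT]
  refine h.dvd_card hY T (Finset.notMem_erase 1 _) fun y hy v hv => ?_
  simp only [T, Finset.mem_erase, Set.Finite.mem_toFinset, SetLike.mem_coe] at hv ⊢
  exact ⟨fun e => hv.1 (MulAction.injective y (e.trans (smul_one y).symm)), hU y hy v hv.2⟩

theorem small_of_dvd {e a b : ℕ} (ha : 2 ≤ a) (hb : 2 ≤ b) (he : 0 < e) (h1 : e ∣ a - 1) (h2 : e ∣ a * b - 1) :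
    (e + 1) ^ 2 ≤ a * b := by
  have h3 : e ∣ b - 1 := by
    obtain ⟨u, hu⟩ := h1
    obtain ⟨w, hw⟩ := h2
    have : (a * b - 1) = (a - 1) * b + (b - 1) := by
      obtain ⟨a', rfl⟩ : ∃ a', a = a' + 1 := ⟨a - 1, by omega⟩
      rw [Nat.add_sub_cancel]
      have : (a' + 1) * b = a' * b + b := by ring
      omega
    have h4 : e ∣ (a - 1) * b := Dvd.dvd.mul_right ⟨u, hu⟩ _
    exact (Nat.dvd_add_right h4).1 (this ▸ ⟨w, hw⟩)
  have h5 := Nat.le_of_dvd (by omega) h1
  have h6 := Nat.le_of_dvd (by omega) h3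
  rw [sq]
  exact Nat.mul_le_mul (by omega) (by omega)

/-- No proper non-trivial subgroup is invariant under a covering subgroup. -/
theorem Lin.invariant_eq (h : Lin K V) {Y : Subgroup X} (hY : Y ⊔ K = ⊤) (U : Subgroup V)
    (hU : ∀ y ∈ Y, ∀ v ∈ U, y • v ∈ U) : U = ⊥ ∨ U = ⊤ := by
  by_contra hc
  push Not at hc
  have h1 := h.dvd_sub hY U hU
  have h2 := h.dvd_sub hY ⊤ fun _ _ _ _ => Subgroup.mem_top _
  rw [Subgroup.card_top, ← U.index_mul_card, mul_comm] at h2
  have hb := h.big
  rw [← U.index_mul_card, mul_comm] at hb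
  refine absurd hb (not_lt.2 (small_of_dvd ?_ ?_ h.index_pos h1 h2))
  · exact Subgroup.one_lt_card_iff_ne_bot _ |>.2 hc.1
  · have := U.index_ne_zero_of_finite
    have : U.index ≠ 1 := fun e => hc.2 (Subgroup.index_eq_one.1 e)
    omega

theorem smul_fx {A : Subgroup X} {x : X} (hx : x ∈ Subgroup.normalizer (A : Set X)) {v : V} (hv : v ∈ fx V A) :
    x • v ∈ fx V A := fun a ha => by
  have h1 : x⁻¹ * a * x ∈ A := by
    have := (Subgroup.mem_normalizer_iff.1 (inv_mem hx) a).1 ha
    simpa using this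
  calc a • x • v = x • (x⁻¹ * a * x) • v := by simp [mul_smul]
    _ = x • v := by rw [hv _ h1]

/-- A good non-trivial subgroup fixes only the identity. -/
theorem Lin.fx_eq_bot (h : Lin K V) {A : Subgroup X} (hA : Good K A) (hne : A ≠ ⊥) : fx V A = ⊥ := by
  refine (h.invariant_eq hA.2 (fx V A) fun y hy v hv => smul_fx hy hv).resolve_right fun htop => hne ?_
  rw [Subgroup.eq_bot_iff_forall]
  exact fun a ha => h.faith a (hA.1 ha) fun v => (htop ▸ Subgroup.mem_top v : v ∈ fx V A) a ha

end Cfsg.Agent.Perm.Derange
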