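import Cfsg.Agent.Lib.Perm.Derange.LinAbelian

/-!
A normal subgroup of large index outside which every element is fixed-point-free acts semiregularly.
-/

set_option autoImplicit false
set_option linter.unusedSectionVars false
set_option linter.style.haveILetI false

namespace Cfsg.Agent.Perm.Derange

open MulAction Pointwise

variable {X V : Type*} [Group X] [CommGroup V] [MulDistribMulAction X V] [Finite X] [Finite V] {K : Subgroup X}

theorem exists_proper_powers {s : ℕ} [Fact s.Prime] {Q : Subgroup X} (hQ : IsPGroup s Q) (hne : Q ≠ ⊥) :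
    ∃ C : Subgroup X, C < Q ∧ Subgroup.normalizer (Q : Set X) ≤ Subgroup.normalizer (C : Set X) ∧
      (∀ x ∈ Q, x ^ s ∈ C) ∧ ∀ x ∈ Q, ∀ y ∈ Q, x * y * x⁻¹ * y⁻¹ ∈ C := by
  let G₀ : Set X := {c | ∃ x ∈ Q, c = x ^ s} ∪ {c | ∃ x ∈ Q, ∃ y ∈ Q, c = x * y * x⁻¹ * y⁻¹}
  have hGQ : Subgroup.closure G₀ ≤ Q := (Subgroup.closure_le Q).2 fun c hc => by
    rcases hc with ⟨x, hx, rfl⟩ | ⟨x, hx, y, hy, rfl⟩
    · exact pow_mem hx s
    · exact mul_mem (mul_mem (mul_mem hx hy) (inv_mem hx)) (inv_mem hy)
  refine ⟨Subgroup.closure G₀, lt_of_le_of_ne hGQ fun e => ?_, fun g hg => ?_,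
    fun x hx => Subgroup.subset_closure (Or.inl ⟨x, hx, rfl⟩),
    fun x hx y hy => Subgroup.subset_closure (Or.inr ⟨x, hx, y, hy, rfl⟩)⟩
  · -- a subgroup of index `s`
    haveI : Nontrivial Q := (Subgroup.nontrivial_iff_ne_bot Q).2 hne
    obtain ⟨n, hn0, hn⟩ := hQ.nontrivial_iff_card.1 inferInstance
    obtain ⟨m, rfl⟩ : ∃ m, n = m + 1 := ⟨n - 1, by omega⟩
    obtain ⟨M, hM⟩ := Sylow.exists_subgroup_card_pow_prime (G := Q) s (n := m) (hn ▸ pow_dvd_pow s (by omega))
    have hs := (Fact.out : s.Prime)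
    have hMi : M.index = s := by
      have h1 := M.index_mul_card
      rw [hM, hn, pow_succ, mul_comm (s ^ m) s] at h1
      exact Nat.eq_of_mul_eq_mul_right (pow_pos hs.pos m) h1
    haveI : M.Normal := Subgroup.normal_of_index_eq_minFac_card (by
      rw [hMi, hn, Nat.Prime.pow_minFac hs (Nat.succ_ne_zero m)])
    haveI : IsCyclic (Q ⧸ M) := isCyclic_of_prime_card (p := s) (by rw [← Subgroup.index_eq_card, hMi])
    have h2 : Subgroup.closure G₀ ≤ M.map Q.subtype := (Subgroup.closure_le _).2 fun c hc => by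
      rcases hc with ⟨x, hx, rfl⟩ | ⟨x, hx, y, hy, rfl⟩
      · exact ⟨⟨x, hx⟩ ^ s, hMi ▸ M.pow_index_mem ⟨x, hx⟩, rfl⟩
      · refine ⟨⟨x, hx⟩ * ⟨y, hy⟩ * ⟨x, hx⟩⁻¹ * ⟨y, hy⟩⁻¹, (QuotientGroup.eq_one_iff _).1 ?_, rfl⟩
        simp only [QuotientGroup.mk_mul, QuotientGroup.mk_inv]
        rw [Std.Commutative.comm (op := (· * · : Q ⧸ M → Q ⧸ M → Q ⧸ M)) (self := ⟨fun a b => ?_⟩)
          (QuotientGroup.mk (⟨x, hx⟩ : Q) : Q ⧸ M) (QuotientGroup.mk ⟨y, hy⟩)]
        · group
        · exact IsCyclic.commGroup.mul_comm a b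
    rw [e] at h2
    have h3 : M = ⊤ := top_le_iff.1 fun q _ => by
      obtain ⟨m', hm', hq⟩ := h2 q.2
      exact Subtype.ext hq ▸ hm'
    rw [h3, Subgroup.index_top] at hMi
    exact hs.ne_one hMi.symm
  · have hgQ : ∀ x, x ∈ Q ↔ g * x * g⁻¹ ∈ Q := Subgroup.mem_normalizer_iff.1 hg
    have hmap : ∀ g ∈ Subgroup.normalizer (Q : Set X), ∀ c ∈ Subgroup.closure G₀, g * c * g⁻¹ ∈ Subgroup.closure G₀ := by
      intro g hg c hc
      have hgQ : ∀ x, x ∈ Q ↔ g * x * g⁻¹ ∈ Q := Subgroup.mem_normalizer_iff.1 hg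
      suffices Subgroup.closure G₀ ≤ (Subgroup.closure G₀).comap (MulAut.conj g).toMonoidHom from this hc
      refine (Subgroup.closure_le _).2 fun c hc => ?_
      rcases hc with ⟨x, hx, rfl⟩ | ⟨x, hx, y, hy, rfl⟩
      · rw [SetLike.mem_coe, Subgroup.mem_comap, map_pow]
        exact Subgroup.subset_closure (Or.inl ⟨_, (hgQ x).1 hx, rfl⟩)
      · rw [SetLike.mem_coe, Subgroup.mem_comap]
        simp only [map_mul, map_inv]
        exact Subgroup.subset_closure (Or.inr ⟨_, (hgQ x).1 hx, _, (hgQ y).1 hy, rfl⟩)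
    refine Subgroup.mem_normalizer_iff.2 fun c => ⟨hmap g hg c, fun hc => ?_⟩
    have h1 := hmap g⁻¹ (inv_mem hg) _ hc
    simpa [mul_assoc] using h1

theorem mem_fx_zpowers {g : X} {v : V} : v ∈ fx V (Subgroup.zpowers g) ↔ g • v = v :=
  ⟨fun hv => hv g (Subgroup.mem_zpowers g),
    fun hv _ ha => (Subgroup.zpowers_le.2 hv : Subgroup.zpowers g ≤ stabilizer X v) ha⟩

theorem card_fx_conj (g y : X) :
    Nat.card ↥(fx V (Subgroup.zpowers (y * g * y⁻¹))) = Nat.card ↥(fx V (Subgroup.zpowers g)) := by
  refine Nat.card_congr ((MulAction.toPerm y).subtypeEquiv fun w => ?_).symm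
  rw [mem_fx_zpowers, mem_fx_zpowers, MulAction.toPerm_apply]
  simp only [mul_smul, inv_smul_smul, smul_left_cancel_iff]

theorem card_mul_card_le {A B : Subgroup V} (h : A ⊓ B = ⊥) : Nat.card A * Nat.card B ≤ Nat.card V := by
  rw [← Nat.card_prod]
  refine Nat.card_le_card_of_injective (fun w : A × B => (w.1 : V) * w.2) ?_
  rintro ⟨a, b⟩ ⟨a', b'⟩ (e : (a : V) * b = a' * b')
  have h1 : ((a' : V))⁻¹ * a = b' * (b : V)⁻¹ := by
    rw [eq_mul_inv_iff_mul_eq, mul_assoc, e, inv_mul_cancel_left]
  have h2 : ((a' : V))⁻¹ * a ∈ A ⊓ B :=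
    Subgroup.mem_inf.2 ⟨mul_mem (A.inv_mem a'.2) a.2, h1 ▸ mul_mem b'.2 (B.inv_mem b.2)⟩
  rw [h, Subgroup.mem_bot, inv_mul_eq_one] at h2
  rw [h2, mul_left_cancel_iff] at e
  exact Prod.ext (Subtype.ext h2.symm) (Subtype.ext e)

theorem small_odd {e w n : ℕ} (he : 2 * e ≤ 3 * (w - 1)) (hw : 2 ≤ w) (hn : w ^ 3 ≤ n) : (e + 1) ^ 2 ≤ n := by
  have h1 : 2 * (e + 1) ≤ 3 * w - 1 := by omega
  have h2 : (2 * (e + 1)) ^ 2 ≤ 4 * w ^ 3 := by
    refine (Nat.pow_le_pow_left h1 2).trans ?_
    rcases Nat.lt_or_ge w 3 with h3 | h3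
    · obtain rfl : w = 2 := by omega
      norm_num
    · have : (3 * w - 1) ^ 2 ≤ (3 * w) ^ 2 := Nat.pow_le_pow_left (by omega) 2
      nlinarith [Nat.mul_le_mul_left (w * w) h3]
  nlinarith

/-- The semiregularity. -/
theorem Lin.sr (h : Lin K V) : SR V K := by
  classical
  haveI := h.normal
  by_contra hbad
  simp only [SR, not_forall, not_or] at hbad
  obtain ⟨k, hk, v₀, hkv, hk1, hv₀⟩ := hbad
  -- an element of prime order
  obtain ⟨s, hs, hsk⟩ := Nat.exists_prime_and_dvd (fun e => hk1 (orderOf_eq_one_iff.1 e))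
  haveI := Fact.mk hs
  set g₀ := k ^ (orderOf k / s) with hg₀
  have hg₀o : orderOf g₀ = s := orderOf_pow_orderOf_div (orderOf_pos k).ne' hsk
  have hg₀K : g₀ ∈ K := pow_mem hk _
  have hg₀v : g₀ • v₀ = v₀ := by
    have : g₀ ∈ stabilizer X v₀ := pow_mem (show k ∈ stabilizer X v₀ from hkv) _
    exact this
  -- a good `s`-subgroup that is not semiregular
  let 𝒬 : Set (Subgroup X) := {Q | Good K Q ∧ IsPGroup s Q ∧ ¬ SR V Q}
  have h𝒬 : 𝒬.Nonempty := by
    obtain ⟨P, hP⟩ := (IsPGroup.of_card (p := s) (n := 1) (G := Subgroup.zpowers (⟨g₀, hg₀K⟩ : K))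
      (by rw [Nat.card_zpowers, Subgroup.orderOf_mk, hg₀o, pow_one])).exists_le_sylow
    refine ⟨(P : Subgroup K).map K.subtype, ⟨Subgroup.map_subtype_le _, Sylow.normalizer_sup_eq_top P⟩,
      P.2.map _, fun hSR => ?_⟩
    rcases hSR g₀ ⟨_, hP (Subgroup.mem_zpowers _), rfl⟩ v₀ hg₀v with e | e
    · exact hs.ne_one (by rw [← hg₀o, e, orderOf_one])
    · exact hv₀ e
  obtain ⟨Q, hQ, hmin⟩ := 𝒬.toFinite.exists_minimalFor (fun Q : Subgroup X => Nat.card Q) 𝒬 h𝒬
  obtain ⟨hQg, hQp, hQns⟩ := hQ
  set N := Subgroup.normalizer (Q : Set X) with hN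
  have hQN : Q ≤ N := Subgroup.le_normalizer
  have hQne : Q ≠ ⊥ := fun e => hQns fun q hq v _ => Or.inl (Subgroup.mem_bot.1 (e ▸ hq))
  obtain ⟨C, hCQ, hCN, hpow, hcomm⟩ := exists_proper_powers hQp hQne
  have hCK : C ≤ K := hCQ.le.trans hQg.1
  have hCSR : SR V C := by
    by_contra hc
    have hlt : Nat.card C < Nat.card Q := by
      refine lt_of_le_of_ne (Subgroup.card_le_of_le hCQ.le) fun e => hCQ.ne ?_
      exact Subgroup.eq_of_le_of_card_ge hCQ.le e.ge
    exact absurd (hmin ⟨hQg.of_le hCQ.le hCN, hQp.to_le hCQ.le, hc⟩ hlt.le) (not_le.2 hlt)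
  have hsK : s ∣ Nat.card K := by
    rw [← hg₀o, ← Subgroup.orderOf_mk g₀ hg₀K]
    exact orderOf_dvd_natCard _
  -- the stabilisers are elementary abelian
  have hstab : ∀ v : V, v ≠ 1 → ∀ q ∈ Q, q • v = v → q ^ s = 1 := fun v hv q hq hqv =>
    (hCSR _ (hpow q hq) v (pow_mem (show q ∈ stabilizer X v from hqv) s)).resolve_right hv
  -- the elements of order `s` with fixed points
  haveI : Fintype X := Fintype.ofFinite X
  let I : Finset X := Finset.univ.filter fun g => g ∈ Q ∧ orderOf g = s ∧ ∃ v : V, v ≠ 1 ∧ g • v = v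
  have hI : ∀ g, g ∈ I ↔ g ∈ Q ∧ orderOf g = s ∧ ∃ v : V, v ≠ 1 ∧ g • v = v := fun g => by simp [I]
  have hIne : ∀ g ∈ I, g ≠ 1 := fun g hg e => hs.ne_one (by rw [← ((hI g).1 hg).2.1, e, orderOf_one])
  have hIfix : ∀ q ∈ Q, ∀ v : V, v ≠ 1 → q • v = v → q ≠ 1 → q ∈ I := fun q hq v hv hqv hq1 =>
    (hI q).2 ⟨hq, orderOf_eq_prime (hstab v hv q hq hqv) hq1, v, hv, hqv⟩
  have hnc : ∀ g ∈ I, ∃ y ∈ Q, y * g ≠ g * y := fun g hg => by
    obtain ⟨hgQ, hgo, v, hv, hgv⟩ := (hI g).1 hg
    by_contra hc
    push Not at hc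
    let Z := Q ⊓ Subgroup.centralizer (Q : Set X)
    have hZ : Good K Z := hQg.of_le inf_le_left fun x hx => by
      refine Subgroup.mem_normalizer_iff.2 fun c => ?_
      have hx' := Subgroup.mem_normalizer_iff.1 hx
      simp only [Z, Subgroup.mem_inf, Subgroup.mem_centralizer_iff, SetLike.mem_coe]
      refine and_congr (hx' c) ⟨fun hc q hq => ?_, fun hc q hq => ?_⟩
      · have h1 := hc (x⁻¹ * q * x) ((hx' _).2 (by simpa [mul_assoc] using hq))
        calc q * (x * c * x⁻¹) = x * ((x⁻¹ * q * x) * c) * x⁻¹ := by group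
          _ = x * (c * (x⁻¹ * q * x)) * x⁻¹ := by rw [h1]
          _ = _ := by group
      · have h1 := hc (x * q * x⁻¹) ((hx' q).1 hq)
        calc q * c = x⁻¹ * ((x * q * x⁻¹) * (x * c * x⁻¹)) * x := by group
          _ = x⁻¹ * ((x * c * x⁻¹) * (x * q * x⁻¹)) * x := by rw [h1]
          _ = _ := by group
    have h2 := h.sr_abelian hZ fun a ha b hb => (Subgroup.mem_centralizer_iff.1 hb.2 a ha.1)
    exact hv ((h2 g ⟨hgQ, Subgroup.mem_centralizer_iff.2 fun q hq => hc q hq⟩ v hgv).resolve_left (hIne g hg))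
  -- the inequality for one orbit
  have hineq : ∀ (w : ℕ), (∀ g ∈ I, Nat.card ↥(fx V (Subgroup.zpowers g)) ≤ w) → ∀ v : V, v ≠ 1 →
      K.index * Nat.card Q * (Nat.card ↥(Q ⊓ stabilizer X v) - 1) ≤
        I.card * (w - 1) * Nat.card ↥(Q ⊓ stabilizer X v) := by
    intro w hw v hv
    have h1 := h.le_orbit hQg.2 hQN hQg.1 hv
    let T : Finset V := (orbit N v).toFinite.toFinset
    have hT : ∀ u, u ∈ T ↔ u ∈ orbit N v := fun u => Set.Finite.mem_toFinset _
    have hTc : (orbit N v).ncard = T.card := Set.ncard_eq_toFinset_card _ _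
    have hT1 : ∀ u ∈ T, u ≠ 1 := fun u hu e => by
      obtain ⟨x, hx⟩ := (hT u).1 hu
      exact hv (MulAction.injective (x : X) ((show (x : X) • v = 1 from hx.trans e).trans (smul_one _).symm))
    have hsize : ∀ u ∈ T, (I.filter fun g => g • u = u).card = Nat.card ↥(Q ⊓ stabilizer X v) - 1 := fun u hu => by
      obtain ⟨⟨x, hx⟩, hxu⟩ := (hT u).1 hu
      have hxu : x • v = u := hxu
      have h3 : Nat.card ↥(Q ⊓ stabilizer X u) = Nat.card ↥(Q ⊓ stabilizer X v) := by
        rw [← hxu]
        refine Nat.card_congr ((MulAut.conj x⁻¹).toEquiv.subtypeEquiv fun q => ?_)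
        simp only [Subgroup.mem_inf, mem_stabilizer_iff, MulEquiv.toEquiv_eq_coe, EquivLike.coe_coe,
          MulAut.conj_apply, inv_inv, mul_smul, inv_smul_eq_iff]
        exact and_congr_left fun _ => by simpa using Subgroup.mem_normalizer_iff.1 (inv_mem hx) q
      have h4 : (I.filter fun g => g • u = u) =
          ((Q ⊓ stabilizer X u : Subgroup X) : Set X).toFinite.toFinset.erase 1 := by
        ext q
        simp only [Finset.mem_filter, Finset.mem_erase, Set.Finite.mem_toFinset, SetLike.mem_coe, Subgroup.mem_inf,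
          mem_stabilizer_iff]
        exact ⟨fun hq => ⟨hIne q hq.1, ((hI q).1 hq.1).1, hq.2⟩,
          fun hq => ⟨hIfix q hq.2.1 u (hT1 u hu) hq.2.2 hq.1, hq.2.2⟩⟩
      rw [h4, Finset.card_erase_of_mem (by simp [(Q ⊓ stabilizer X u).one_mem]), ← Set.ncard_eq_toFinset_card, ← h3]
      rfl
    have hside : ∀ g ∈ I, (T.filter fun u => g • u = u).card ≤ w - 1 := fun g hg => by
      refine le_trans (Finset.card_le_card (t := ((fx V (Subgroup.zpowers g) : Set V).toFinite.toFinset).erase 1)
        fun u hu => ?_) ?_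
      · obtain ⟨hu, hgu⟩ := Finset.mem_filter.1 hu
        exact Finset.mem_erase.2 ⟨hT1 u hu, (Set.Finite.mem_toFinset _).2 (mem_fx_zpowers.2 hgu)⟩
      · rw [Finset.card_erase_of_mem (by simp [(fx V (Subgroup.zpowers g)).one_mem]), ← Set.ncard_eq_toFinset_card]
        exact Nat.sub_le_sub_right (hw g hg) 1
    have hdc : T.card * (Nat.card ↥(Q ⊓ stabilizer X v) - 1) ≤ I.card * (w - 1) := by
      rw [← smul_eq_mul, ← Finset.sum_const, ← Finset.sum_congr rfl hsize]
      simp only [Finset.card_filter]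
      rw [Finset.sum_comm]
      refine le_trans (Finset.sum_le_card_nsmul _ _ (w - 1) fun g hg => ?_) (le_of_eq (smul_eq_mul _ _))
      rw [← Finset.card_filter]
      exact hside g hg
    rw [hTc] at h1
    calc _ ≤ T.card * Nat.card ↥(Q ⊓ stabilizer X v) * (Nat.card ↥(Q ⊓ stabilizer X v) - 1) :=
          Nat.mul_le_mul_right _ h1
      _ = T.card * (Nat.card ↥(Q ⊓ stabilizer X v) - 1) * Nat.card ↥(Q ⊓ stabilizer X v) := by ring
      _ ≤ _ := Nat.mul_le_mul_right _ hdc
  -- conjugates
  have hconjI : ∀ g ∈ I, ∀ y ∈ Q, y * g * y⁻¹ ∈ I := fun g hg y hy => by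
    obtain ⟨hgQ, hgo, v, hv, hgv⟩ := (hI g).1 hg
    refine (hI _).2 ⟨mul_mem (mul_mem hy hgQ) (inv_mem hy), ?_, y • v, ?_, by simp [mul_smul, hgv]⟩
    · rw [← hgo]
      exact orderOf_injective (MulAut.conj y).toMonoidHom (MulAut.conj y).injective g
    · exact fun e => hv (MulAction.injective y (e.trans (smul_one y).symm))
  obtain ⟨q₀, hq₀, u₀, hqu₀, hq₀1, hu₀⟩ : ∃ q ∈ Q, ∃ v : V, q • v = v ∧ q ≠ 1 ∧ v ≠ 1 := by
    by_contra hc
    push Not at hc
    exact hQns fun q hq v hv => or_iff_not_imp_left.2 (hc q hq v hv)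
  have hq₀I : q₀ ∈ I := hIfix q₀ hq₀ u₀ hu₀ hqu₀ hq₀1
  have hstabne : ∀ q ∈ Q, ∀ v : V, q • v = v → q ≠ 1 → 2 ≤ Nat.card ↥(Q ⊓ stabilizer X v) :=
    fun q hq v hqv hq1 => (Subgroup.one_lt_card_iff_ne_bot _).2 fun e => hq1 (Subgroup.mem_bot.1 (e ▸ ⟨hq, hqv⟩))
  have hIQ : I.card ≤ Nat.card Q := by
    rw [← Set.ncard_coe_finset, show Nat.card Q = (Q : Set X).ncard from rfl]
    exact Set.ncard_le_ncard (fun g hg => ((hI g).1 hg).1) (Set.toFinite _)
  have hbound : (K.index + 1) ^ 2 ≤ Nat.card V := by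
    rcases hs.eq_two_or_odd with hs2 | hs2
    · -- involutions
      subst hs2
      have hinv : ∀ g ∈ I, g * g = 1 := fun g hg => by rw [← sq, ← ((hI g).1 hg).2.1, pow_orderOf_eq_one]
      have hhalf : ∀ g ∈ I, Nat.card ↥(fx V (Subgroup.zpowers g)) ≤ (Nat.card V).sqrt := fun g hg => by
        obtain ⟨y, hy, hne⟩ := hnc g hg
        rw [Nat.le_sqrt]
        refine le_trans ?_ (card_mul_card_le (A := fx V (Subgroup.zpowers g)) (B := fx V (Subgroup.zpowers (y * g * y⁻¹))) ?_)
        · rw [card_fx_conj]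
        · refine (Subgroup.eq_bot_iff_forall _).2 fun v hv => ?_
          obtain ⟨h1, h2⟩ := hv
          have h1 : g • v = v := mem_fx_zpowers.1 h1
          have h2 : (y * g * y⁻¹) • v = v := mem_fx_zpowers.1 h2
          have hc : (y * g * y⁻¹ * g⁻¹) • v = v := by
            have : (y * g * y⁻¹) • g⁻¹ • v = v := by rw [inv_smul_eq_iff.2 h1.symm]; exact h2
            rw [mul_smul]; exact this
          exact (hCSR _ (hcomm y hy g ((hI g).1 hg).1) v hc).resolve_left fun e => hne
            (mul_inv_eq_iff_eq_mul.1 (mul_inv_eq_one.1 e))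
      have hw2 : 1 ≤ (Nat.card V).sqrt := (Nat.one_le_iff_ne_zero).2 (by
        rw [Ne, Nat.sqrt_eq_zero]; exact Nat.card_pos.ne')
      suffices K.index ≤ (Nat.card V).sqrt - 1 by
        calc (K.index + 1) ^ 2 ≤ ((Nat.card V).sqrt) ^ 2 := Nat.pow_le_pow_left (by omega) 2
          _ ≤ Nat.card V := Nat.sqrt_le' _
      by_cases hbig : ∃ v : V, v ≠ 1 ∧ 4 ≤ Nat.card ↥(Q ⊓ stabilizer X v)
      · obtain ⟨v, hv, h4⟩ := hbig
        have hI34 : 4 * I.card ≤ 3 * Nat.card Q := by
          by_contra hgt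
          -- more than three quarters
          obtain ⟨y, hy, hne⟩ := hnc q₀ hq₀I
          let J : Finset X := I.filter fun a => q₀ * a ∈ I
          have hJ : Nat.card Q < 2 * J.card := by
            let Qf : Finset X := Finset.univ.filter (· ∈ Q)
            have hQf : Qf.card = Nat.card Q := by
              rw [Nat.card_eq_fintype_card]; exact (Fintype.card_subtype _).symm
            have h1 : I ∪ I.image (q₀ * ·) ⊆ Qf := fun a ha => by
              refine Finset.mem_filter.2 ⟨Finset.mem_univ _, ?_⟩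
              rcases Finset.mem_union.1 ha with ha | ha
              · exact ((hI a).1 ha).1
              · obtain ⟨b, hb, rfl⟩ := Finset.mem_image.1 ha
                exact mul_mem hq₀ ((hI b).1 hb).1
            have h2 : I ∩ I.image (q₀ * ·) = J.image (q₀ * ·) := by
              ext a
              simp only [J, Finset.mem_inter, Finset.mem_image, Finset.mem_filter]
              constructor
              · rintro ⟨ha, b, hb, rfl⟩; exact ⟨b, ⟨hb, ha⟩, rfl⟩
              · rintro ⟨b, ⟨hb, hb'⟩, rfl⟩; exact ⟨hb', b, hb, rfl⟩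
            have h3 := Finset.card_union_add_card_inter I (I.image (q₀ * ·))
            rw [h2, Finset.card_image_of_injective _ (mul_right_injective q₀),
              Finset.card_image_of_injective _ (mul_right_injective q₀)] at h3
            have h4 := Finset.card_le_card h1
            omega
          let Z : Subgroup X := Q ⊓ Subgroup.centralizer {q₀}
          have hJZ : (J : Set X) ⊆ Z := fun a ha => by
            obtain ⟨ha, hga⟩ := Finset.mem_filter.1 ha
            refine ⟨((hI a).1 ha).1, Subgroup.mem_centralizer_singleton_iff.2 ?_⟩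
            have h1 : (q₀ * a) * (q₀ * a) = 1 := hinv _ hga
            calc a * q₀ = (q₀ * q₀) * a * q₀ * (a * a) := by rw [hinv _ hq₀I, hinv _ ha, one_mul, mul_one]
              _ = q₀ * ((q₀ * a) * (q₀ * a)) * a := by group
              _ = q₀ * a := by rw [h1, mul_one]
          have hZQ : Z = Q := by
            refine Subgroup.eq_of_le_of_card_ge inf_le_left ?_
            obtain ⟨m, hm⟩ := Subgroup.card_dvd_of_le (inf_le_left : Z ≤ Q)
            have h1 : J.card ≤ Nat.card Z := by
              rw [← Set.ncard_coe_finset]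
              exact Set.ncard_le_ncard hJZ (Set.toFinite _)
            have hm : Nat.card Q = Nat.card Z * m := hm
            have h2 : m < 2 := by
              by_contra hm2
              have := Nat.mul_le_mul_left (Nat.card Z) (not_lt.1 hm2)
              omega
            interval_cases m
            · exact absurd (hm.trans (mul_zero _)) Nat.card_pos.ne'
            · rw [hm, mul_one]
          have h5 : y ∈ Z := hZQ ▸ hy
          exact hne (Subgroup.mem_centralizer_singleton_iff.1 h5.2)
        have h1 := hineq _ hhalf v hv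
        set d := Nat.card ↥(Q ⊓ stabilizer X v)
        set w := (Nat.card V).sqrt - 1
        have hQ0 : 0 < Nat.card Q := Nat.card_pos
        have hd : 3 * d ≤ 4 * (d - 1) := by omega
        have h2 : K.index * Nat.card Q * 3 * d ≤ Nat.card Q * w * 3 * d := by
          calc K.index * Nat.card Q * 3 * d ≤ K.index * Nat.card Q * (4 * (d - 1)) := by
                rw [mul_assoc _ 3 d]; exact Nat.mul_le_mul_left _ hd
            _ = 4 * (K.index * Nat.card Q * (d - 1)) := by ring
            _ ≤ 4 * (I.card * w * d) := Nat.mul_le_mul_left _ h1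
            _ = (4 * I.card) * w * d := by ring
            _ ≤ (3 * Nat.card Q) * w * d := by gcongr
            _ = _ := by ring
        have h3 := Nat.le_of_mul_le_mul_right (Nat.le_of_mul_le_mul_right h2 (by omega)) (by norm_num)
        rw [mul_comm] at h3
        exact Nat.le_of_mul_le_mul_left h3 hQ0
      · push Not at hbig
        have hsmall : ∀ v : V, v ≠ 1 → ∀ a ∈ Q, ∀ b ∈ Q, a • v = v → b • v = v → a ≠ 1 → b ≠ 1 → a = b := by
          intro v hv a ha b hb hav hbv ha1 hb1
          by_contra hab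
          have hmem : ∀ x, x ∈ Q → x • v = v → x ∈ Q ⊓ stabilizer X v := fun x hx hxv => ⟨hx, hxv⟩
          have hab1 : a * b ∈ Q ⊓ stabilizer X v := mul_mem (hmem a ha hav) (hmem b hb hbv)
          have ha2 := hstab v hv a ha hav
          have h4 : ({1, a, b, a * b} : Finset X).card = 4 := by
            refine Finset.card_eq_four.2 ⟨1, a, b, a * b, Ne.symm ha1, Ne.symm hb1, ?_, hab, ?_, ?_, rfl⟩
            · exact fun e => hab (by rw [sq] at ha2; exact mul_left_cancel (a := a) (ha2.trans e))
            · exact fun e => hb1 (left_eq_mul.1 e)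
            · exact fun e => ha1 (right_eq_mul.1 e)
          have := hbig v hv
          have h5 : ({1, a, b, a * b} : Finset X).card ≤ Nat.card ↥(Q ⊓ stabilizer X v) := by
            rw [← Set.ncard_coe_finset]
            refine Set.ncard_le_ncard (t := ((Q ⊓ stabilizer X v : Subgroup X) : Set X)) ?_ (Set.toFinite _)
            simp only [Finset.coe_insert, Finset.coe_singleton, Set.insert_subset_iff, Set.singleton_subset_iff]
            exact ⟨Subgroup.one_mem _, hmem a ha hav, hmem b hb hbv, hab1⟩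
          omega
        -- the central involution
        obtain ⟨y, hy, hyne⟩ := hnc q₀ hq₀I
        have hC1 : C ≠ ⊥ := fun e => hyne (by
          have := e ▸ hcomm y hy q₀ hq₀
          rw [Subgroup.mem_bot, mul_inv_eq_one, mul_inv_eq_iff_eq_mul] at this
          exact this)
        have h2C : 2 ∣ Nat.card C := by
          obtain ⟨n, hn⟩ := (hQp.to_le hCQ.le).exists_card_eq
          have : n ≠ 0 := fun e => hC1 (Subgroup.card_eq_one.1 (by rw [hn, e, pow_zero]))
          exact hn ▸ dvd_pow_self 2 this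
        obtain ⟨z₀, hz₀⟩ := exists_prime_orderOf_dvd_card' 2 h2C
        set z : X := (z₀ : X)
        have hzo : orderOf z = 2 := (Subgroup.orderOf_coe z₀).trans hz₀
        have hz1 : z ≠ 1 := fun e => by rw [e, orderOf_one] at hzo; omega
        have hzz : z * z = 1 := by rw [← sq, ← hzo, pow_orderOf_eq_one]
        have hzneg : ∀ v : V, z • v = v⁻¹ := fun v => by
          have h1 : z • (v * z • v) = v * z • v := by rw [smul_mul', smul_smul, hzz, one_smul, mul_comm]
          exact (inv_eq_of_mul_eq_one_right ((hCSR z z₀.2 _ h1).resolve_left hz1)).symm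
        have hsq : ∀ v : V, v * v = 1 → v = 1 := fun v hv => h.eq_one_of_pow hsK (by rwa [sq])
        have hfaith : ∀ a ∈ Q, ∀ b ∈ Q, (∀ v : V, a • v = b • v) → a = b := fun a ha b hb e => by
          rw [← inv_mul_eq_one]
          refine (h.faith _ (mul_mem (inv_mem (hQg.1 ha)) (hQg.1 hb)) fun v => ?_)
          rw [mul_smul, ← e, inv_smul_smul]
        have hzQ : z ∈ Q := hCQ.le z₀.2
        have hzI : z ∉ I := fun hzI => by
          obtain ⟨-, -, v, hv, hzv⟩ := (hI z).1 hzI
          exact hv ((hCSR z z₀.2 v hzv).resolve_left hz1)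
        have hdisj : ∀ g ∈ I, ∀ a ∈ I, g * a ∉ I := by
          intro g hg a ha hga
          have hga' : g * a = a * g := by
            calc g * a = (g * a)⁻¹ := eq_inv_of_mul_eq_one_left (hinv _ hga)
              _ = a⁻¹ * g⁻¹ := mul_inv_rev g a
              _ = a * g := by rw [inv_eq_of_mul_eq_one_right (hinv a ha), inv_eq_of_mul_eq_one_right (hinv g hg)]
          have hgQ := ((hI g).1 hg).1
          have haQ := ((hI a).1 ha).1
          have hneq : g ≠ a := fun e => hIne _ hga (e ▸ hinv g hg)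
          -- an element commuting with `g` inverts its fixed points
          have key : ∀ g' ∈ Q, g' ≠ a → g' * a = a * g' → g' ≠ 1 → ∀ v : V, g' • v = v → a • v = v⁻¹ := by
            intro g' hg' hne' hc hg'1 v hv
            by_cases h0 : v * a • v = 1
            · exact (inv_eq_of_mul_eq_one_right h0).symm
            · exfalso
              refine hne' (hsmall _ h0 g' hg' a haQ ?_ ?_ hg'1 (hIne a ha))
              · rw [smul_mul', hv, smul_smul, hc, mul_smul, hv]
              · rw [smul_mul', smul_smul, hinv a ha, one_smul, mul_comm]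
          have hzc : ∀ b ∈ Q, b * z = z * b := fun b hb =>
            hfaith _ (mul_mem hb hzQ) _ (mul_mem hzQ hb) fun v => by
              rw [mul_smul, mul_smul, hzneg, hzneg, smul_inv']
          refine hzI ?_
          have haz : a = z := by
            refine hfaith a haQ z hzQ fun v => ?_
            have h1 : g • (v * g • v) = v * g • v := by rw [smul_mul', smul_smul, hinv g hg, one_smul, mul_comm]
            have h2 : (g * z) • (v * (g • v)⁻¹) = v * (g • v)⁻¹ := by
              rw [mul_smul, hzneg, mul_inv_rev, inv_inv, smul_mul', smul_smul, hinv g hg, one_smul, smul_inv',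
                mul_comm]
            have e1 := key g hgQ hneq hga' (hIne g hg) _ h1
            have hgz1 : g * z ≠ 1 := fun e => hzI ((inv_eq_of_mul_eq_one_right e).symm.trans
              (inv_eq_of_mul_eq_one_right (hinv g hg)) ▸ hg)
            have hgza : g * z ≠ a := fun e => hzI (by
              have : g * a = z := by rw [← e, ← mul_assoc, hinv g hg, one_mul]
              exact this ▸ hga)
            have e2 := key (g * z) (mul_mem hgQ hzQ) hgza (by
              rw [mul_assoc, ← hzc a haQ, ← mul_assoc, hga', mul_assoc]) hgz1 _ h2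
            have h3 : (v * g • v) * (v * (g • v)⁻¹) = v * v := by
              rw [mul_mul_mul_comm, mul_inv_cancel, mul_one]
            have h4 : a • (v * v) = (v * v)⁻¹ := by
              rw [← h3, smul_mul', e1, e2, ← mul_inv]
            rw [hzneg, ← mul_left_inj (v : V), inv_mul_cancel]
            refine hsq _ ?_
            rw [mul_mul_mul_comm, ← smul_mul', h4, inv_mul_cancel]
          exact haz ▸ ha
        have hIhalf : 2 * I.card ≤ Nat.card Q := by
          have h1 : Disjoint I (I.image (q₀ * ·)) := Finset.disjoint_left.2 fun a ha hb => by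
            obtain ⟨b, hb', rfl⟩ := Finset.mem_image.1 hb
            exact hdisj q₀ hq₀I b hb' ha
          have h2 : ((I ∪ I.image (q₀ * ·) : Finset X) : Set X) ⊆ Q := fun a ha => by
            rcases Finset.mem_union.1 ha with ha | ha
            · exact ((hI a).1 ha).1
            · obtain ⟨b, hb, rfl⟩ := Finset.mem_image.1 ha
              exact mul_mem hq₀ ((hI b).1 hb).1
          have h3 := Set.ncard_le_ncard h2 (Set.toFinite _)
          rw [Set.ncard_coe_finset, Finset.card_union_of_disjoint h1,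
            Finset.card_image_of_injective _ (mul_right_injective q₀)] at h3
          rw [two_mul]
          exact h3
        have h1 := hineq _ hhalf u₀ hu₀
        set d := Nat.card ↥(Q ⊓ stabilizer X u₀)
        set w := (Nat.card V).sqrt - 1
        have hd2 : 2 ≤ d := hstabne q₀ hq₀ u₀ hqu₀ hq₀1
        have hd : d ≤ 2 * (d - 1) := by omega
        have h2 : K.index * Nat.card Q * d ≤ w * Nat.card Q * d := by
          calc K.index * Nat.card Q * d ≤ K.index * Nat.card Q * (2 * (d - 1)) := Nat.mul_le_mul_left _ hd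
            _ = 2 * (K.index * Nat.card Q * (d - 1)) := by ring
            _ ≤ 2 * (I.card * w * d) := Nat.mul_le_mul_left _ h1
            _ = (2 * I.card) * w * d := by ring
            _ ≤ Nat.card Q * w * d := by gcongr
            _ = _ := by ring
        exact Nat.le_of_mul_le_mul_right (Nat.le_of_mul_le_mul_right h2 (by omega)) Nat.card_pos
    · -- odd order
      have hs3 : 3 ≤ s := by have := hs.two_le; omega
      have hthird : ∀ g ∈ I, Nat.card ↥(fx V (Subgroup.zpowers g)) ^ 3 ≤ Nat.card V := by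
        intro g hg
        obtain ⟨hgQ, hgo, -⟩ := (hI g).1 hg
        have hgs : g ^ s = 1 := hgo ▸ pow_orderOf_eq_one g
        -- an element normalising the centraliser
        let Z : Subgroup Q := Subgroup.centralizer {(⟨g, hgQ⟩ : Q)}
        have hZlt : Z < ⊤ := lt_top_iff_ne_top.2 fun e => by
          obtain ⟨y, hy, hne⟩ := hnc g hg
          have h1 : (⟨y, hy⟩ : Q) ∈ Z := by rw [e]; exact Subgroup.mem_top _
          exact hne (congrArg (fun q : Q => (q : X)) (Subgroup.mem_centralizer_singleton_iff.1 h1))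
        haveI : Group.IsNilpotent Q := hQp.isNilpotent
        obtain ⟨y₀, hy₀N, hy₀Z⟩ := SetLike.exists_of_lt (normalizerCondition_of_isNilpotent Z hZlt)
        set y : X := (y₀ : X)
        obtain ⟨z, hz⟩ : ∃ z : X, z = g⁻¹ * (y * g * y⁻¹) := ⟨_, rfl⟩
        have hgg' : Commute g (y * g * y⁻¹) := by
          have h1 : y₀ * ⟨g, hgQ⟩ * y₀⁻¹ ∈ Z :=
            (Subgroup.mem_normalizer_iff.1 hy₀N _).1 (Subgroup.mem_centralizer_singleton_iff.2 rfl)
          exact (congrArg Subtype.val (Subgroup.mem_centralizer_singleton_iff.1 h1)).symm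
        have hgz : Commute g z := hz ▸ (Commute.refl g).inv_right.mul_right hgg'
        have hzC : z ∈ C := by
          have := hcomm g⁻¹ (inv_mem hgQ) y y₀.2
          simpa [hz, mul_assoc] using this
        have hz1 : z ≠ 1 := fun e => hy₀Z (Subgroup.mem_centralizer_singleton_iff.2 (Subtype.ext
          (mul_inv_eq_iff_eq_mul.1 (inv_mul_eq_one.1 (hz.symm.trans e)).symm)))
        have hzs : z ^ s = 1 := by
          rw [hz, (hgg'.inv_left).mul_pow, inv_pow, hgs, inv_one, one_mul, conj_pow, hgs]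
          simp
        have hzo : orderOf z = s := orderOf_eq_prime hzs hz1
        -- the centre of `C`
        have hCne : C ≠ ⊥ := fun e => hz1 (Subgroup.mem_bot.1 (e ▸ hzC))
        haveI : Nontrivial C := (Subgroup.nontrivial_iff_ne_bot C).2 hCne
        haveI := (hQp.to_le hCQ.le).center_nontrivial
        have hsc : s ∣ Nat.card (Subgroup.center C) := by
          obtain ⟨n, hn0, hn⟩ := ((hQp.to_le hCQ.le).to_subgroup (Subgroup.center C)).nontrivial_iff_card.1 inferInstance
          exact hn ▸ dvd_pow_self s hn0.ne'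
        obtain ⟨c₀, hc₀⟩ := exists_prime_orderOf_dvd_card' s hsc
        set c : X := ((c₀ : C) : X)
        have hco : orderOf c = s := by rw [Subgroup.orderOf_coe, Subgroup.orderOf_coe, hc₀]
        have hcc : ∀ x ∈ C, Commute x c := fun x hx =>
          congrArg Subtype.val (Subgroup.mem_center_iff.1 c₀.2 ⟨x, hx⟩)
        have hall : ∀ x ∈ C, x ^ s = 1 → x ∈ Subgroup.zpowers c := fun x hx hxs =>
          h.mem_zpowers_of_sr hCSR hCK hs hx (c₀ : C).2 (hcc x hx) hxs hco
        have hzc : z ∈ Subgroup.zpowers c := hall z hzC hzs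
        have hzz : Subgroup.zpowers c = Subgroup.zpowers z := by
          refine (Subgroup.eq_of_le_of_card_ge (Subgroup.zpowers_le.2 hzc) ?_).symm
          rw [Nat.card_zpowers, Nat.card_zpowers, hco, hzo]
        have hyz : Commute y z := by
          have hyQ : y ∈ Q := y₀.2
          have h1 : y * z * y⁻¹ ∈ Subgroup.zpowers z := by
            rw [← hzz]
            refine hall _ ((Subgroup.mem_normalizer_iff.1 (hCN (hQN hyQ)) z).1 hzC) ?_
            rw [conj_pow, hzs]; simp
          obtain ⟨u, hu : z ^ u = y * z * y⁻¹⟩ := Subgroup.mem_zpowers_iff.1 h1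
          have hit : ∀ n : ℕ, y ^ n * z * (y ^ n)⁻¹ = z ^ (u ^ n) := fun n => by
            induction n with
            | zero => simp
            | succ n ih =>
              calc y ^ (n + 1) * z * (y ^ (n + 1))⁻¹ = y * (y ^ n * z * (y ^ n)⁻¹) * y⁻¹ := by
                    rw [pow_succ']; group
                _ = (y * z * y⁻¹) ^ (u ^ n) := by rw [ih, conj_zpow]
                _ = z ^ (u ^ (n + 1)) := by rw [← hu, ← zpow_mul, pow_succ']
          obtain ⟨i, hi⟩ := hQp ⟨y, hyQ⟩
          have h2 := hit (s ^ i)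
          rw [show y ^ (s ^ i) = 1 from congrArg Subtype.val hi] at h2
          simp only [one_mul, inv_one, mul_one] at h2
          have h3 : ((u : ZMod s)) ^ (s ^ i) = 1 := by
            have : z ^ (u ^ (s ^ i) - 1) = 1 := by rw [zpow_sub, ← h2, zpow_one, mul_inv_cancel]
            have h4 := orderOf_dvd_iff_zpow_eq_one.2 this
            rw [hzo, ← ZMod.intCast_zmod_eq_zero_iff_dvd] at h4
            push_cast at h4
            exact sub_eq_zero.1 h4
          rw [ZMod.pow_card_pow] at h3
          have h5 : z ^ (u - 1) = 1 := by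
            refine orderOf_dvd_iff_zpow_eq_one.1 ?_
            rw [hzo, ← ZMod.intCast_zmod_eq_zero_iff_dvd]
            push_cast
            rw [h3, sub_self]
          rw [zpow_sub_one, mul_inv_eq_one, hu, mul_inv_eq_iff_eq_mul] at h5
          exact h5
        -- the three spaces
        have hW1 : y * g * y⁻¹ = g * z := by rw [hz, mul_inv_cancel_left]
        have hW2 : y * (g * z) * y⁻¹ = g * (z * z) := by
          calc y * (g * z) * y⁻¹ = (y * g * y⁻¹) * (y * z * y⁻¹) := by group
            _ = g * (z * z) := by rw [hW1, hyz.eq, mul_assoc z y y⁻¹, mul_inv_cancel, mul_one, mul_assoc]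
        set W0 := fx V (Subgroup.zpowers g)
        set W1 := fx V (Subgroup.zpowers (g * z))
        set W2 := fx V (Subgroup.zpowers (g * (z * z)))
        have hc1 : Nat.card W1 = Nat.card W0 := by
          have h1 := card_fx_conj (V := V) g y
          rw [hW1] at h1
          exact h1
        have hc2 : Nat.card W2 = Nat.card W0 := by
          have h1 := card_fx_conj (V := V) (g * z) y
          rw [hW2] at h1
          exact h1.trans hc1
        have hsr : ∀ n : ℕ, 0 < n → n < 3 → ∀ v : V, z ^ n • v = v → v = 1 := fun n hn hn3 v hv =>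
          (hCSR _ (pow_mem hzC n) v hv).resolve_left fun e => by
            have := Nat.le_of_dvd hn (hzo ▸ orderOf_dvd_of_pow_eq_one e)
            omega
        refine le_trans (le_of_eq ?_) (Nat.card_le_card_of_injective
          (fun w : W0 × W1 × W2 => (w.1 : V) * (w.2.1 * w.2.2)) ?_)
        · rw [Nat.card_prod, Nat.card_prod, hc1, hc2]; ring
        rintro ⟨⟨a, ha⟩, ⟨b, hb⟩, ⟨c', hc'⟩⟩ ⟨⟨a', ha'⟩, ⟨b', hb'⟩, ⟨d', hd'⟩⟩ e
        simp only at e
        have ind : ∀ a ∈ W0, ∀ b ∈ W1, ∀ c ∈ W2, a * (b * c) = 1 → a = 1 ∧ b = 1 ∧ c = 1 := by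
          intro a ha b hb c hc habc
          have hga : g • a = a := mem_fx_zpowers.1 ha
          have hgb : (g * z) • b = b := mem_fx_zpowers.1 hb
          have hgc : (g * (z * z)) • c = c := mem_fx_zpowers.1 hc
          have h1 : z • z • g • (a * (b * c)) = 1 := by simp [habc]
          have hzb : z • z • g • b = z • b := by
            conv_rhs => rw [← hgb, hgz.eq, mul_smul]
            try rfl
          have hzc : z • z • g • c = c := by
            rw [smul_smul, smul_smul, ← (hgz.mul_right hgz).eq]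
            exact hgc
          rw [smul_mul', smul_mul', smul_mul', smul_mul', smul_mul', smul_mul', hga, hzb, hzc] at h1
          have hc_eq : c = (a * b)⁻¹ := (inv_eq_of_mul_eq_one_right (by rw [mul_assoc]; exact habc)).symm
          have h2 : z • (z • a) * z • b = a * b := by
            rw [hc_eq, ← mul_assoc, mul_inv_eq_one] at h1
            exact h1
          have h3 : z • ((z • a * a) * b) = (z • a * a) * b := by
            rw [smul_mul', smul_mul', mul_right_comm, h2]
            ac_rfl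
          have h4 : (z • a * a) * b = 1 := hsr 1 one_pos (by norm_num) _ (by rw [pow_one]; exact h3)
          have hb0 : b ∈ W0 := by
            rw [show b = (z • a * a)⁻¹ from (inv_eq_of_mul_eq_one_right h4).symm]
            refine inv_mem (mul_mem (mem_fx_zpowers.2 ?_) ha)
            rw [smul_smul, hgz.eq, mul_smul, hga]
          have hb1 : b = 1 := by
            refine hsr 1 one_pos (by norm_num) b ?_
            rw [pow_one]
            have hgb0 : g • b = b := mem_fx_zpowers.1 hb0
            calc z • b = z • g • b := by rw [hgb0]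
              _ = (g * z) • b := by rw [smul_smul, hgz.eq]
              _ = b := hgb
          rw [hb1, mul_one] at h4
          have ha1 : a = 1 := by
            refine hsr 2 two_pos (by norm_num) a ?_
            have h5 : z • a = a⁻¹ := eq_inv_of_mul_eq_one_left h4
            rw [sq, mul_smul, h5, smul_inv', h5, inv_inv]
          refine ⟨ha1, hb1, ?_⟩
          rwa [ha1, hb1, one_mul, one_mul] at habc
        have h5 : a / a' * (b / b' * (c' / d')) = 1 := by
          rw [div_mul_div_comm, div_mul_div_comm, e, div_self']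
        obtain ⟨p1, p2, p3⟩ := ind _ (div_mem ha ha') _ (div_mem hb hb') _ (div_mem hc' hd') h5
        rw [div_eq_one] at p1 p2 p3
        subst p1 p2 p3
        rfl
      obtain ⟨g₁, hg₁, hmax⟩ := I.exists_max_image (fun g => Nat.card ↥(fx V (Subgroup.zpowers g))) ⟨q₀, hq₀I⟩
      set w := Nat.card ↥(fx V (Subgroup.zpowers g₁))
      have h1 := hineq w hmax u₀ hu₀
      have hw2 : 2 ≤ w := le_trans ((Subgroup.one_lt_card_iff_ne_bot _).2 fun e => hu₀ (Subgroup.mem_bot.1
        (e ▸ mem_fx_zpowers.2 hqu₀))) (hmax q₀ hq₀I)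
      set d := Nat.card ↥(Q ⊓ stabilizer X u₀)
      have hd3 : 3 ≤ d := by
        obtain ⟨n, hn⟩ := (hQp.to_le (inf_le_left : Q ⊓ stabilizer X u₀ ≤ Q)).exists_card_eq
        have h2 := hstabne q₀ hq₀ u₀ hqu₀ hq₀1
        rcases n with _ | n
        · have h2 : 2 ≤ d := h2
          have hn : d = 1 := hn.trans (pow_zero s)
          omega
        · rw [show d = s ^ (n + 1) from hn, pow_succ]
          exact le_trans hs3 (Nat.le_mul_of_pos_left s (pow_pos hs.pos n))
      refine small_odd ?_ hw2 (hthird g₁ hg₁)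
      have hd : 2 * d ≤ 3 * (d - 1) := by omega
      have h2 : 2 * K.index * Nat.card Q * d ≤ 3 * (w - 1) * Nat.card Q * d := by
        calc 2 * K.index * Nat.card Q * d = K.index * Nat.card Q * (2 * d) := by ring
          _ ≤ K.index * Nat.card Q * (3 * (d - 1)) := Nat.mul_le_mul_left _ hd
          _ = 3 * (K.index * Nat.card Q * (d - 1)) := by ring
          _ ≤ 3 * (I.card * (w - 1) * d) := Nat.mul_le_mul_left _ h1
          _ ≤ 3 * (Nat.card Q * (w - 1) * d) := by gcongr
          _ = _ := by ring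
      exact Nat.le_of_mul_le_mul_right (Nat.le_of_mul_le_mul_right h2 (by omega)) Nat.card_pos
  exact absurd hbound (not_le.2 h.big)

end Cfsg.Agent.Perm.Derange
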