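import Cfsg.Agent.Lib.Char.Constituent
import Cfsg.Agent.Lib.Char.Contrib

/-!
A regular abelian subgroup equal to the centraliser of each of its non-identity elements: with at least four
orbits of the point stabiliser besides the point, these are the orbits of the stabiliser of the subgroup.
-/

set_option autoImplicit false
set_option linter.unusedSectionVars false
set_option linter.style.haveILetI false

namespace Cfsg.Agent.Perm.Derange

open MulAction Cfsg Cfsg.Agent.Char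

universe u v

variable {Γ : Type u} {Ω : Type v} [Group Γ] [MulAction Γ Ω]

/-- The data: a regular abelian subgroup containing the centralisers of its non-identity elements. -/
structure CCData (T : Subgroup Γ) (a : Ω) : Prop where
  onto : ∀ b : Ω, ∃ t ∈ T, t • a = b
  free : ∀ t ∈ T, t • a = a → t = 1
  comm : ∀ s ∈ T, ∀ t ∈ T, s * t = t * s
  cent : ∀ u ∈ T, u ≠ 1 → ∀ c : Γ, c * u = u * c → c ∈ T

/-- The stabiliser of the point and of the subgroup. -/
def pairStab (T : Subgroup Γ) (a : Ω) : Subgroup Γ := Subgroup.normalizer (T : Set Γ) ⊓ stabilizer Γ a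

variable [Finite Γ] [Finite Ω] {T : Subgroup Γ} {a : Ω}

theorem CCData.card_eq (h : CCData T a) : Nat.card T = Nat.card Ω :=
  Nat.card_congr (Equiv.ofBijective (fun t : T => (t : Γ) • a) ⟨fun s t e => by
    refine Subtype.ext (inv_mul_eq_one.1 (h.free _ (mul_mem (inv_mem s.2) t.2) ?_))
    rw [mul_smul, ← show (s : Γ) • a = (t : Γ) • a from e, inv_smul_smul], fun b => by
    obtain ⟨t, ht, htb⟩ := h.onto b
    exact ⟨⟨t, ht⟩, htb⟩⟩)

theorem CCData.eq_one_of_commute (h : CCData T a) {k u : Γ} (hk : k ∈ pairStab T a) (hu : u ∈ T) (hu1 : u ≠ 1)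
    (hc : k * u = u * k) : k = 1 :=
  h.free k (h.cent u hu hu1 k hc) hk.2

variable (T a) in
/-- Conjugation by an element of the normaliser. -/
def cj (k : pairStab T a) : T →* T :=
  (T.normalizerMonoidHom ⟨k, k.2.1⟩).toMonoidHom

theorem cj_apply (k : pairStab T a) (t : T) : ((cj T a k t : T) : Γ) = (k : Γ) * t * (k : Γ)⁻¹ := rfl

theorem cj_mul (k l : pairStab T a) (t : T) : cj T a (k * l) t = cj T a k (cj T a l t) := by
  refine Subtype.ext ?_
  simp only [cj_apply, Subgroup.coe_mul, mul_inv_rev, mul_assoc]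

theorem cj_one (t : T) : cj T a 1 t = t := Subtype.ext (by simp [cj_apply])

/-- The action on characters. -/
noncomputable def tw (h : CCData T a) (k : pairStab T a) (ψ : IrrCharacter T) : IrrCharacter T :=
  ⟨fun t => (ψ : T → ℂ) (cj T a k t), by
    obtain ⟨l, hl⟩ := linearHom_of_isCharacter (IsIrr.isCharacter ψ.2)
      (IsIrr.one_of_comm (fun s t => Subtype.ext (h.comm s s.2 t t.2)) ψ.2)
    have := isIrr_linear (l.comp (cj T a k))
    simpa [hl] using this⟩

theorem tw_apply (h : CCData T a) (k : pairStab T a) (ψ : IrrCharacter T) (t : T) :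
    (tw h k ψ : T → ℂ) t = (ψ : T → ℂ) (cj T a k t) := rfl

theorem tw_tw (h : CCData T a) (k l : pairStab T a) (ψ : IrrCharacter T) : tw h k (tw h l ψ) = tw h (l * k) ψ :=
  Subtype.ext (funext fun t => by simp only [tw_apply, cj_mul])

theorem tw_one (h : CCData T a) (ψ : IrrCharacter T) : tw h 1 ψ = ψ :=
  Subtype.ext (funext fun t => by rw [tw_apply, cj_one])

theorem CCData.tw_free (h : CCData T a) {k : pairStab T a} {ψ : IrrCharacter T}
    (hψ : (ψ : T → ℂ) ≠ fun _ => 1) (hk : tw h k ψ = ψ) : k = 1 := by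
  by_contra hk1
  have hc : ∀ s t : T, s * t = t * s := fun s t => Subtype.ext (h.comm s s.2 t t.2)
  obtain ⟨l, hl⟩ := linearHom_of_isCharacter (IsIrr.isCharacter ψ.2) (IsIrr.one_of_comm hc ψ.2)
  have hfix : ∀ t : T, l (cj T a k t) = l t := fun t => Units.ext (by
    have h1 : (tw h k ψ : T → ℂ) t = (ψ : T → ℂ) t := by rw [hk]
    rw [tw_apply, hl] at h1
    exact h1)
  let f : T → T := fun t => cj T a k t * t⁻¹
  have hf : Function.Injective f := fun s t e => by
    have e' : cj T a k (t⁻¹ * s) = t⁻¹ * s := by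
      have e : cj T a k s * s⁻¹ = cj T a k t * t⁻¹ := e
      rw [mul_inv_eq_iff_eq_mul] at e
      rw [map_mul, map_inv, e, mul_assoc (cj T a k t), inv_mul_cancel_left]
    by_contra hne
    refine hk1 (Subtype.ext (h.eq_one_of_commute k.2 (t⁻¹ * s).2 (fun e1 => hne ?_) ?_))
    · exact (inv_mul_eq_one.1 (Subtype.ext e1)).symm
    · exact mul_inv_eq_iff_eq_mul.1 ((cj_apply k _).symm.trans (congrArg Subtype.val e'))
  refine hψ (funext fun t => ?_)
  obtain ⟨s, hs⟩ := (Finite.injective_iff_surjective.1 hf) t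
  rw [hl]
  show ((l t : ℂˣ) : ℂ) = 1
  rw [← hs]
  show ((l (cj T a k s * s⁻¹) : ℂˣ) : ℂ) = 1
  rw [map_mul, hfix, map_inv, mul_inv_cancel, Units.val_one]

open scoped Classical in
/-- The value of an induced function on the subgroup. -/
theorem CCData.ind_apply [Fintype Γ] (h : CCData T a) [Fintype (pairStab T a)] (f : T → ℂ) (h1 : f 1 = 0) (u : T) :
    indFun T f u = ∑ k : pairStab T a, f (cj T a k u) := by
  haveI : Fintype T := Fintype.ofFinite T
  by_cases hu : u = 1
  · subst hu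
    rw [Subgroup.coe_one, indFun_one_eq, h1, mul_zero]
    exact (Finset.sum_eq_zero fun k _ => by rw [map_one, h1]).symm
  let e : T × pairStab T a → Γ := fun p => (p.1 : Γ) * (p.2 : Γ)⁻¹
  have he : Function.Injective e := fun ⟨t, k⟩ ⟨s, l⟩ hh => by
    have hh : (t : Γ) * (k : Γ)⁻¹ = (s : Γ) * (l : Γ)⁻¹ := hh
    have h2 : (s : Γ)⁻¹ * t = (l : Γ)⁻¹ * k := by
      rw [inv_mul_eq_iff_eq_mul, ← mul_assoc, ← hh, inv_mul_cancel_right]
    have h3 : (s : Γ)⁻¹ * t = 1 := by
      refine h.free _ (mul_mem (inv_mem s.2) t.2) ?_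
      rw [h2, mul_smul, mem_stabilizer_iff.1 k.2.2, mem_stabilizer_iff.1 (inv_mem l.2.2)]
    rw [h3] at h2
    exact Prod.ext (Subtype.ext (inv_mul_eq_one.1 h3).symm) (Subtype.ext (inv_mul_eq_one.1 h2.symm).symm)
  have hzero : ∀ x ∈ (Finset.univ : Finset Γ), x ∉ Finset.univ.image e →
      extendByZero T f (x⁻¹ * u * x) = 0 := fun x _ hx => by
    refine extendByZero_not_mem f fun hmem => hx ?_
    have hw1 : x⁻¹ * (u : Γ) * x ≠ 1 := fun e1 => hu (Subtype.ext (by
      have e2 := congrArg (fun y => x * y * x⁻¹) e1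
      simpa [mul_assoc] using e2))
    have hxN : x ∈ Subgroup.normalizer (T : Set Γ) := by
      refine Subgroup.mem_normalizer_iff.2 fun c => ⟨fun hc => ?_, fun hc => ?_⟩
      · refine h.cent u u.2 (fun e1 => hu (Subtype.ext e1)) _ ?_
        calc x * c * x⁻¹ * u = x * (c * (x⁻¹ * u * x)) * x⁻¹ := by group
          _ = x * ((x⁻¹ * u * x) * c) * x⁻¹ := by rw [h.comm _ hc _ hmem]
          _ = _ := by group
      · refine h.cent _ hmem hw1 _ ?_
        calc c * (x⁻¹ * u * x) = x⁻¹ * ((x * c * x⁻¹) * u) * x := by group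
          _ = x⁻¹ * (u * (x * c * x⁻¹)) * x := by rw [h.comm _ hc _ u.2]
          _ = _ := by group
    obtain ⟨t, ht, hta⟩ := h.onto (x • a)
    have hk : x⁻¹ * t ∈ pairStab T a := Subgroup.mem_inf.2 ⟨mul_mem (inv_mem hxN) (Subgroup.le_normalizer ht),
      mem_stabilizer_iff.2 (by rw [mul_smul, hta, inv_smul_smul])⟩
    exact Finset.mem_image.2 ⟨(⟨t, ht⟩, ⟨_, hk⟩), Finset.mem_univ _, by simp [e]⟩
  have hval : ∀ p : T × pairStab T a, extendByZero T f ((e p)⁻¹ * u * e p) = f (cj T a p.2 u) := fun ⟨t, k⟩ => by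
    have h2 : (e (t, k))⁻¹ * (u : Γ) * e (t, k) = ((cj T a k u : T) : Γ) := by
      simp only [e, cj_apply, mul_inv_rev, inv_inv]
      calc (k : Γ) * (t : Γ)⁻¹ * u * (t * (k : Γ)⁻¹) = k * ((t : Γ)⁻¹ * ((u : Γ) * t)) * (k : Γ)⁻¹ := by group
        _ = _ := by rw [h.comm _ u.2 _ t.2, inv_mul_cancel_left]
    rw [h2, extendByZero_apply]
  rw [indFun, ← Finset.sum_subset (Finset.subset_univ _) hzero, Finset.sum_image fun p _ q _ hpq => he hpq,
    Finset.sum_congr rfl fun p _ => hval p, Fintype.sum_prod_type]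
  dsimp only
  rw [Finset.sum_const, Finset.card_univ, nsmul_eq_mul, ← Nat.card_eq_fintype_card,
    inv_mul_cancel_left₀ (Nat.cast_ne_zero.2 Nat.card_pos.ne')]

open scoped Classical in
/-- The permutation character. -/
theorem indFun_stabilizer_apply [Fintype Γ] (htrans : ∀ b : Ω, ∃ g : Γ, g • a = b) (g : Γ) :
    indFun (stabilizer Γ a) (fun _ => (1 : ℂ)) g = (Nat.card (fixedBy Ω g) : ℂ) := by
  rw [Contrib.indFun_one_apply]
  congr 1
  refine Nat.card_congr ((Equiv.ofBijective (ofQuotientStabilizer Γ a) ⟨injective_ofQuotientStabilizer Γ a,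
    fun b => ?_⟩).subtypeEquiv fun t => ?_)
  · obtain ⟨x, hx⟩ := htrans b
    exact ⟨(x : Γ ⧸ stabilizer Γ a), (ofQuotientStabilizer_mk Γ a x).trans hx⟩
  · show g • t = t ↔ g • ofQuotientStabilizer Γ a t = ofQuotientStabilizer Γ a t
    rw [← ofQuotientStabilizer_smul]
    exact ⟨congrArg _, fun e => injective_ofQuotientStabilizer Γ a e⟩

theorem sum_fix_eq {H : Type*} [Group H] [Fintype H] [MulAction H Ω] :
    (∑ g : H, (Nat.card (fixedBy Ω g) : ℂ)) = (Nat.card (orbitRel.Quotient H Ω) : ℂ) * Nat.card H := by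
  classical
  haveI := Fintype.ofFinite Ω
  have h1 := sum_card_fixedBy_eq_card_orbits_mul_card_group H Ω
  rw [Nat.card_eq_fintype_card, Nat.card_eq_fintype_card, ← Nat.cast_mul, ← h1, Nat.cast_sum]
  exact Finset.sum_congr rfl fun g _ => by rw [Nat.card_eq_fintype_card]

theorem natCast_ite_eq {n : ℕ} {p : Prop} [Decidable p] (h : (n : ℂ) = if p then 1 else 0) :
    n = if p then 1 else 0 := by
  split_ifs at h ⊢ <;> exact_mod_cast h

/-- The orbits of the stabiliser are those of the stabiliser of the regular subgroup. -/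
theorem CCData.orbit_eq (h : CCData T a) (h5 : 5 ≤ Nat.card (orbitRel.Quotient (stabilizer Γ a) Ω)) (b : Ω)
    {g : Γ} (hg : g • a = a) : ∃ k ∈ pairStab T a, k • b = g • b := by
  classical
  haveI : Fintype Γ := Fintype.ofFinite Γ
  haveI : Fintype T := Fintype.ofFinite T
  set H := stabilizer Γ a
  haveI : Fintype H := Fintype.ofFinite H
  set K := pairStab T a
  haveI : Fintype K := Fintype.ofFinite K
  have htrans : ∀ b : Ω, ∃ g : Γ, g • a = b := fun b => (h.onto b).imp fun t ht => ht.2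
  have hc : ∀ s t : T, s * t = t * s := fun s t => Subtype.ext (h.comm s s.2 t t.2)
  haveI : Nonempty Ω := ⟨a⟩
  set π : Γ → ℂ := indFun H (fun _ => (1 : ℂ)) with hπ
  have hπc : IsCharacter Γ π := isCharacter_indFun H IsChar.one
  have hπv : ∀ g, π g = (Nat.card (fixedBy Ω g) : ℂ) := indFun_stabilizer_apply htrans
  obtain ⟨c, hca, hdec⟩ := IsChar.exists_decomp_inner hπc
  let φ₁ : IrrCharacter Γ := ⟨fun _ => 1, isIrr_one⟩
  -- multiplicities on the subgroup
  have hm : ∀ (φ : IrrCharacter Γ) (ψ : IrrCharacter T),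
      ∃ m : ℕ, classInner (fun t : T => (φ : Γ → ℂ) t) (ψ : T → ℂ) = m := fun φ ψ =>
    IsChar.classInner_nat (IsChar.res (IsIrr.isCharacter φ.2) T) (IsIrr.isCharacter ψ.2)
  choose m hm using hm
  -- regular restriction
  have hreg : ∀ ψ : IrrCharacter T, ∑ φ, c φ * m φ ψ = 1 := fun ψ => by
    have h1 : classInner (fun t : T => π t) (ψ : T → ℂ) = 1 := by
      rw [classInner, Finset.sum_eq_single (1 : T) (fun t _ ht => ?_) (by simp)]
      · have : fixedBy Ω ((1 : T) : Γ) = Set.univ := by ext; simp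
        rw [hπv, this, Nat.card_univ, IsIrr.one_of_comm hc ψ.2, map_one, mul_one, h.card_eq,
          inv_mul_cancel₀ (Nat.cast_ne_zero.2 Nat.card_pos.ne')]
      · have : fixedBy Ω (t : Γ) = ∅ := Set.eq_empty_iff_forall_notMem.2 fun b hb => ht (by
          obtain ⟨s, hs, rfl⟩ := h.onto b
          have hb : (t : Γ) • s • a = s • a := hb
          rw [smul_smul, h.comm t t.2 s hs, mul_smul] at hb
          exact Subtype.ext (h.free t t.2 (smul_left_cancel s hb)))
        rw [hπv, this]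
        simp
    have h2 : (fun t : T => π t) = ∑ φ : IrrCharacter Γ, (c φ : ℂ) • fun t : T => (φ : Γ → ℂ) t := by
      funext t
      rw [hdec]
      simp
    rw [h2, classInner_sum_left] at h1
    simp only [classInner_smul_left, hm] at h1
    exact_mod_cast h1
  have hmone : ∀ ψ : IrrCharacter T, m φ₁ ψ = if (ψ : T → ℂ) = (fun _ => 1) then 1 else 0 := fun ψ =>
    natCast_ite_eq (by rw [← hm, classInner_irr_eq_ite isIrr_one ψ.2]; simp only [eq_comm])
  have hc1 : c φ₁ = 1 := by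
    have h1 := hca φ₁
    rw [hπ, classInner_indFun _ _ (IsIrr.classFun φ₁.2),
      show (fun h : H => (φ₁ : Γ → ℂ) h) = fun _ => 1 from rfl, classInner_self_irr isIrr_one] at h1
    exact_mod_cast h1.symm
  let one : IrrCharacter T := ⟨fun _ => 1, isIrr_one⟩
  let Cs := Finset.univ.filter fun φ : IrrCharacter Γ => c φ ≠ 0 ∧ φ ≠ φ₁
  let I : IrrCharacter Γ → Finset (IrrCharacter T) := fun φ => Finset.univ.filter fun ψ => m φ ψ ≠ 0
  have hI1 : ∀ φ ∈ Cs, one ∉ I φ := fun φ hφ h1 => by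
    have h2 : (c φ₁ * m φ₁ one) + c φ * m φ one ≤ 1 := by
      rw [← hreg one, ← Finset.sum_pair (f := fun φ => c φ * m φ one) (Finset.mem_filter.1 hφ).2.2.symm]
      exact Finset.sum_le_sum_of_subset (Finset.subset_univ _)
    rw [hc1, hmone, if_pos rfl] at h2
    have : c φ * m φ one ≠ 0 := mul_ne_zero (Finset.mem_filter.1 hφ).2.1 (Finset.mem_filter.1 h1).2
    omega
  have hIne : ∀ φ ∈ Cs, (I φ).Nonempty := fun φ hφ => by
    obtain ⟨ψ, hψ⟩ := IsChar.exists_constituent' (IsChar.res (IsIrr.isCharacter φ.2) T)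
      (by simpa using IsIrr.one_ne_zero φ.2)
    refine ⟨ψ, Finset.mem_filter.2 ⟨Finset.mem_univ _, fun e => hψ ?_⟩⟩
    rw [hm, e, Nat.cast_zero]
  have hexcl : ∀ φ ∈ Cs, ∀ ψ ∈ I φ, c φ = 1 ∧ m φ ψ = 1 ∧ ∀ φ' ∈ Cs, φ' ≠ φ → m φ' ψ = 0 := fun φ hφ ψ hψ => by
    have h1 := hreg ψ
    rw [← Finset.add_sum_erase _ _ (Finset.mem_univ φ)] at h1
    have hpos : c φ * m φ ψ ≠ 0 := mul_ne_zero (Finset.mem_filter.1 hφ).2.1 (Finset.mem_filter.1 hψ).2
    have h2 : c φ * m φ ψ = 1 := by omega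
    refine ⟨Nat.eq_one_of_mul_eq_one_right h2, Nat.eq_one_of_mul_eq_one_left h2, fun φ' hφ' hne => ?_⟩
    have h3 : ∑ x ∈ Finset.univ.erase φ, c x * m x ψ = 0 := by omega
    have h4 := Finset.sum_eq_zero_iff.1 h3 φ' (Finset.mem_erase.2 ⟨hne, Finset.mem_univ _⟩)
    exact (Nat.mul_eq_zero.1 h4).resolve_left (Finset.mem_filter.1 hφ').2.1
  -- the rank
  have hrank : Nat.card (orbitRel.Quotient H Ω) = 1 + Cs.card := by
    have h1 : classInner π π = (Nat.card (orbitRel.Quotient H Ω) : ℂ) := by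
      conv_lhs => arg 1; rw [hπ]
      rw [classInner_indFun H _ (IsChar.classFun hπc), classInner]
      simp only [hπv, map_natCast, one_mul]
      have h3 := sum_fix_eq (Ω := Ω) (H := H)
      have h4 : ∀ g : H, Nat.card (fixedBy Ω (g : Γ)) = Nat.card (fixedBy Ω g) := fun g => rfl
      simp only [h4]
      rw [h3]
      field_simp
    conv at h1 => lhs; rw [hdec, classInner_sum_sum]
    simp only [map_natCast] at h1
    have h2 : ∑ φ, c φ * c φ = Nat.card (orbitRel.Quotient H Ω) := by exact_mod_cast h1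
    rw [← h2, ← Finset.add_sum_erase _ _ (Finset.mem_univ φ₁), hc1]
    congr 1
    have hCs : Cs = (Finset.univ.erase φ₁).filter fun φ => c φ ≠ 0 := by
      ext φ; simp [Cs, and_comm]
    rw [hCs, Finset.card_filter]
    refine Finset.sum_congr rfl fun φ hφ => ?_
    split_ifs with hz
    · have hφC : φ ∈ Cs := Finset.mem_filter.2 ⟨Finset.mem_univ _, hz, (Finset.mem_erase.1 hφ).1⟩
      obtain ⟨ψ, hψ⟩ := hIne φ hφC
      rw [(hexcl φ hφC ψ hψ).1]
    · rw [not_not.1 hz]
  -- invariance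
  have hinv : ∀ (φ : IrrCharacter Γ) (k : K) (ψ : IrrCharacter T), m φ (tw h k ψ) = m φ ψ := fun φ k ψ => by
    have h1 : classInner (fun t : T => (φ : Γ → ℂ) t) (tw h k ψ : T → ℂ) =
        classInner (fun t : T => (φ : Γ → ℂ) t) (ψ : T → ℂ) := by
      simp only [classInner]
      congr 1
      refine Fintype.sum_equiv ((T.normalizerMonoidHom ⟨k, k.2.1⟩).toEquiv) _ _ fun t => ?_
      show (φ : Γ → ℂ) t * _ = (φ : Γ → ℂ) ((cj T a k t : T) : Γ) * (starRingEnd ℂ) ((ψ : T → ℂ) (cj T a k t))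
      rw [tw_apply, cj_apply, IsIrr.classFun φ.2]
    rw [hm, hm] at h1
    exact_mod_cast h1
  let orb : IrrCharacter T → Finset (IrrCharacter T) := fun ψ => Finset.univ.image fun k : K => tw h k ψ
  have horb : ∀ φ ∈ Cs, ∀ ψ ∈ I φ, orb ψ ⊆ I φ := fun φ hφ ψ hψ x hx => by
    obtain ⟨k, -, rfl⟩ := Finset.mem_image.1 hx
    refine Finset.mem_filter.2 ⟨Finset.mem_univ _, ?_⟩
    rw [hinv]
    exact (Finset.mem_filter.1 hψ).2
  have hne1 : ∀ φ ∈ Cs, ∀ ψ ∈ I φ, (ψ : T → ℂ) ≠ fun _ => 1 := fun φ hφ ψ hψ e =>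
    hI1 φ hφ (show one ∈ I φ from (show ψ = one from Subtype.ext e) ▸ hψ)
  have horbcard : ∀ φ ∈ Cs, ∀ ψ ∈ I φ, (orb ψ).card = Nat.card K := fun φ hφ ψ hψ => by
    rw [Finset.card_image_of_injective, Finset.card_univ, Nat.card_eq_fintype_card]
    intro k l e
    have e' : tw h (k * l⁻¹) ψ = ψ := by
      rw [← tw_tw h l⁻¹ k, show tw h k ψ = tw h l ψ from e, tw_tw, mul_inv_cancel, tw_one]
    exact mul_inv_eq_one.1 (h.tw_free (hne1 φ hφ ψ hψ) e')
  -- the isometry
  let F : IrrCharacter T → IrrCharacter T → Γ → ℂ := fun x y => indFun T ((x : T → ℂ) - (y : T → ℂ))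
  have hF1 : ∀ x y, F x y 1 = 0 := fun x y => by
    simp only [F, indFun_one_eq, Pi.sub_apply, IsIrr.one_of_comm hc x.2, IsIrr.one_of_comm hc y.2, sub_self, mul_zero]
  have hFgen : ∀ x y, IsGeneralizedCharacter Γ (F x y) := fun x y =>
    IsGenChar.ind T (IsGenChar.sub (IsGenChar.of_isCharacter (IsIrr.isCharacter x.2))
      (IsGenChar.of_isCharacter (IsIrr.isCharacter y.2)))
  have hFF : ∀ x y x' y', classInner (F x y) (F x' y') = ∑ k : K,
      ((if x = tw h k x' then (1 : ℂ) else 0) - (if x = tw h k y' then 1 else 0) -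
        (if y = tw h k x' then 1 else 0) + (if y = tw h k y' then 1 else 0)) := fun x y x' y' => by
    simp only [F]
    rw [classInner_indFun T _ (indFun_classFun _ _)]
    have h1 : (fun t : T => indFun T ((x' : T → ℂ) - (y' : T → ℂ)) t) =
        ∑ k : K, ((tw h k x' : T → ℂ) - (tw h k y' : T → ℂ)) := by
      funext t
      rw [h.ind_apply _ (by simp [IsIrr.one_of_comm hc x'.2, IsIrr.one_of_comm hc y'.2]), Finset.sum_apply]
      exact Finset.sum_congr rfl fun k _ => by simp [tw_apply]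
    rw [h1, classInner_sum_right]
    refine Finset.sum_congr rfl fun k _ => ?_
    simp only [classInner_sub_left, classInner_sub_right, classInner_irr_eq_ite x.2 (tw h k x').2,
      classInner_irr_eq_ite x.2 (tw h k y').2, classInner_irr_eq_ite y.2 (tw h k x').2,
      classInner_irr_eq_ite y.2 (tw h k y').2, Subtype.coe_inj]
    ring
  have hFχ : ∀ x y (φ : IrrCharacter Γ), classInner (F x y) (φ : Γ → ℂ) = (m φ x : ℂ) - m φ y := fun x y φ => by
    simp only [F]
    rw [classInner_indFun T _ (IsIrr.classFun φ.2), classInner_sub_left, ← classInner_conj_symm, hm,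
      ← classInner_conj_symm, hm, map_natCast, map_natCast]
  -- every constituent gives one orbit
  have hone : ∀ φ ∈ Cs, ∀ ψ ∈ I φ, I φ = orb ψ := fun φ hφ ψ₁ hψ₁ => by
    refine Finset.Subset.antisymm (fun ψ₂ hψ₂ => ?_) (horb φ hφ ψ₁ hψ₁)
    by_contra hout
    have h3 : 2 ≤ (Cs.erase φ).card := by
      rw [Finset.card_erase_of_mem hφ]; omega
    obtain ⟨φ', hφ', φ'', hφ'', hne⟩ := Finset.one_lt_card.1 h3
    obtain ⟨hne', hφ'C⟩ := Finset.mem_erase.1 hφ'
    obtain ⟨hne'', hφ''C⟩ := Finset.mem_erase.1 hφ''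
    obtain ⟨y₁, hy₁⟩ := hIne φ' hφ'C
    obtain ⟨y₂, hy₂⟩ := hIne φ'' hφ''C
    have hsep : ∀ (φ φ' : IrrCharacter Γ), φ ∈ Cs → φ' ∈ Cs → φ ≠ φ' → ∀ x ∈ I φ, ∀ y ∈ I φ', ∀ k : K,
        x ≠ tw h k y := fun φ φ' h1 h2 h12 x hx y hy k e => by
      subst e
      have h4 : m φ (tw h k y) = 0 := by
        rw [hinv]
        exact (hexcl φ' h2 y hy).2.2 φ h1 h12
      exact (Finset.mem_filter.1 hx).2 h4
    have hnorm : ∀ x ∈ I φ, ∀ φa ∈ Cs, φa ≠ φ → ∀ y ∈ I φa, classInner (F x y) (F x y) = 2 := by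
      intro x hx φa hφa hne y hy
      rw [hFF, Finset.sum_eq_single (1 : K) (fun k _ hk => ?_) (by simp)]
      · rw [tw_one, tw_one, if_pos rfl, if_pos rfl, if_neg, if_neg]
        · norm_num
        · exact fun e => hsep φa φ hφa hφ hne y hy x hx 1 (by rw [tw_one]; exact e)
        · exact fun e => hsep φ φa hφ hφa hne.symm x hx y hy 1 (by rw [tw_one]; exact e)
      · rw [if_neg, if_neg (hsep φ φa hφ hφa hne.symm x hx y hy k), if_neg (hsep φa φ hφa hφ hne y hy x hx k), if_neg]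
        · norm_num
        · exact fun e => hk (h.tw_free (hne1 φa hφa y hy) e.symm)
        · exact fun e => hk (h.tw_free (hne1 φ hφ x hx) e.symm)
    have hdiff : ∀ x ∈ I φ, ∀ φa ∈ Cs, φa ≠ φ → ∀ y ∈ I φa, ∃ q : Γ → ℂ, IsIrrCharacter Γ q ∧ q ≠ (φ : Γ → ℂ) ∧
        F x y = (φ : Γ → ℂ) - q := by
      intro x hx φa hφa hne y hy
      obtain ⟨p, q, hp, hq, hpq, heq⟩ := IsGenChar.norm_two (hFgen x y) (hnorm x hx φa hφa hne y hy) (hF1 x y)
      have h4 := hFχ x y φ
      rw [(hexcl φ hφ x hx).2.1, (hexcl φa hφa y hy).2.2 φ hφ hne.symm, heq, classInner_sub_left,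
        classInner_irr_eq_ite hp φ.2, classInner_irr_eq_ite hq φ.2] at h4
      by_cases hp' : p = (φ : Γ → ℂ)
      · exact ⟨q, hq, fun e => hpq (hp'.trans e.symm), by rw [heq, hp']⟩
      · rw [if_neg hp'] at h4
        split_ifs at h4 <;> norm_num at h4
    obtain ⟨q₁, hq₁, hq₁ne, he₁⟩ := hdiff ψ₁ hψ₁ φ' hφ'C hne' y₁ hy₁
    obtain ⟨q₂, hq₂, hq₂ne, he₂⟩ := hdiff ψ₂ hψ₂ φ'' hφ''C hne'' y₂ hy₂
    have h0 : classInner (F ψ₁ y₁) (F ψ₂ y₂) = 0 := by
      rw [hFF]
      refine Finset.sum_eq_zero fun k _ => ?_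
      rw [if_neg, if_neg (hsep φ φ'' hφ hφ''C (Ne.symm hne'') ψ₁ hψ₁ y₂ hy₂ k),
        if_neg (hsep φ' φ hφ'C hφ hne' y₁ hy₁ ψ₂ hψ₂ k), if_neg (hsep φ' φ'' hφ'C hφ''C hne y₁ hy₁ y₂ hy₂ k)]
      · norm_num
      · intro e
        refine hout (Finset.mem_image.2 ⟨k⁻¹, Finset.mem_univ _, ?_⟩)
        rw [e, tw_tw, mul_inv_cancel, tw_one]
    rw [he₁, he₂, classInner_sub_left, classInner_sub_right, classInner_sub_right, classInner_self_irr φ.2,
      classInner_irr_ne φ.2 hq₂ (Ne.symm hq₂ne), classInner_irr_ne hq₁ φ.2 hq₁ne, classInner_irr_eq_ite hq₁ hq₂] at h0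
    split_ifs at h0 <;> norm_num at h0
  -- counting
  have hcount : Nat.card Ω - 1 = Cs.card * Nat.card K := by
    have hcov : Finset.univ.erase one = Cs.biUnion I := by
      ext ψ
      simp only [Finset.mem_erase, Finset.mem_univ, and_true, Finset.mem_biUnion]
      constructor
      · intro hψ
        obtain ⟨φ, -, hφ⟩ := Finset.exists_ne_zero_of_sum_ne_zero (by rw [hreg ψ]; exact one_ne_zero)
        obtain ⟨h1, h2⟩ := Nat.mul_ne_zero_iff.1 hφ
        refine ⟨φ, Finset.mem_filter.2 ⟨Finset.mem_univ _, h1, fun e => h2 ?_⟩,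
          Finset.mem_filter.2 ⟨Finset.mem_univ _, h2⟩⟩
        rw [e, hmone, if_neg fun e => hψ (Subtype.ext e)]
      · rintro ⟨φ, hφ, hψ⟩ rfl
        exact hI1 φ hφ hψ
    have h1 : Fintype.card (IrrCharacter T) = Nat.card Ω := by
      rw [← Nat.card_eq_fintype_card, card_irrCharacter, ← h.card_eq]
      refine (Nat.card_congr (Equiv.ofBijective ConjClasses.mk ⟨fun s t e => ?_, ConjClasses.mk_surjective⟩)).symm
      obtain ⟨x, hx⟩ := isConj_iff.1 (ConjClasses.mk_eq_mk_iff_isConj.1 e)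
      rw [← hx, hc x s, mul_inv_cancel_right]
    rw [← h1, ← Finset.card_univ, ← Finset.card_erase_of_mem (Finset.mem_univ one), hcov,
      Finset.card_biUnion, Finset.sum_congr rfl (g := fun _ => Nat.card K) fun φ hφ => ?_, Finset.sum_const,
      smul_eq_mul]
    · obtain ⟨ψ, hψ⟩ := hIne φ hφ
      rw [hone φ hφ ψ hψ, horbcard φ hφ ψ hψ]
    · intro φ hφ φ' hφ' hne
      exact Finset.disjoint_left.2 fun ψ hψ hψ' =>
        (Finset.mem_filter.1 hψ').2 ((hexcl φ hφ ψ hψ).2.2 φ' hφ' hne.symm)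
  -- the orbits of the stabiliser of the subgroup
  have hKfix : ∀ k : K, k ≠ 1 → Nat.card (fixedBy Ω k) = 1 := fun k hk => by
    have hset : fixedBy Ω k = {a} := by
      ext x
      simp only [mem_fixedBy, Set.mem_singleton_iff]
      refine ⟨fun hx => ?_, fun hx => hx ▸ mem_stabilizer_iff.1 k.2.2⟩
      obtain ⟨t, ht, rfl⟩ := h.onto x
      by_contra hxa
      have hk' : k = 1 := by
        refine Subtype.ext (h.eq_one_of_commute k.2 ht (fun e => hxa (by rw [e, one_smul])) ?_)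
        have h1 : (k : Γ) * t * (k : Γ)⁻¹ ∈ T := (Subgroup.mem_normalizer_iff.1 k.2.1 t).1 ht
        have h2 : t⁻¹ * ((k : Γ) * t * (k : Γ)⁻¹) = 1 := by
          refine h.free _ (mul_mem (inv_mem ht) h1) ?_
          have hx : (k : Γ) • t • a = t • a := hx
          rw [mul_smul, mul_smul, mul_smul, mem_stabilizer_iff.1 (inv_mem k.2.2), hx, inv_smul_smul]
        exact mul_inv_eq_iff_eq_mul.1 (inv_mul_eq_one.1 h2).symm
      exact hk hk'
    rw [hset, Nat.card_unique]
  have hKorb : Nat.card (orbitRel.Quotient K Ω) = 1 + Cs.card := by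
    have h1 := sum_fix_eq (Ω := Ω) (H := K)
    rw [← Finset.add_sum_erase _ _ (Finset.mem_univ (1 : K)), Finset.sum_congr rfl (g := fun _ => (1 : ℂ))
      fun k hk => by rw [hKfix k (Finset.mem_erase.1 hk).1, Nat.cast_one]] at h1
    have h2 : fixedBy Ω (1 : K) = Set.univ := by ext; simp
    rw [h2, Nat.card_univ, Finset.sum_const, Finset.card_erase_of_mem (Finset.mem_univ _), Finset.card_univ,
      ← Nat.card_eq_fintype_card, nsmul_eq_mul, mul_one] at h1
    have h3 : Nat.card Ω + (Nat.card K - 1) = Nat.card (orbitRel.Quotient K Ω) * Nat.card K := by exact_mod_cast h1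
    have hK1 : 1 ≤ Nat.card K := Nat.card_pos
    have hn1 : 1 ≤ Nat.card Ω := Nat.card_pos
    exact Nat.eq_of_mul_eq_mul_right (Nat.card_pos (α := K)) (by rw [add_mul, one_mul]; omega)
  have hKH : K ≤ H := inf_le_right
  let f : orbitRel.Quotient K Ω → orbitRel.Quotient H Ω :=
    Quotient.map' id fun x y hxy => by
      rw [orbitRel_apply] at hxy ⊢
      obtain ⟨k, hk⟩ := hxy
      exact ⟨⟨k, hKH k.2⟩, hk⟩
  have hf : Function.Bijective f := (Nat.bijective_iff_surjective_and_card f).2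
    ⟨fun q => Quotient.inductionOn' q fun x => ⟨Quotient.mk'' x, rfl⟩, hKorb.trans hrank.symm⟩
  have h1 : f (Quotient.mk'' (g • b)) = f (Quotient.mk'' b) := by
    refine Quotient.sound' ?_
    rw [orbitRel_apply]
    exact ⟨⟨g, hg⟩, rfl⟩
  obtain ⟨k, hk⟩ := orbitRel_apply.1 (Quotient.exact' (hf.1 h1))
  exact ⟨k, k.2, hk⟩

end Cfsg.Agent.Perm.Derange
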