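import Cfsg.Agent.Lib.Perm.Derange.Regular
import Cfsg.Agent.Lib.Perm.Derange.Orbits

/-!
The subgroup generated by the derangements of a transitive group has small index, or the group is a primitive
Frobenius group.
-/

set_option autoImplicit false
set_option linter.unusedSectionVars false
set_option linter.style.haveILetI false

namespace Cfsg.Agent.Perm.Derange

open MulAction

universe u v

variable {G : Type u} {Ω : Type v} [Group G] [MulAction G Ω]

/-- The derangements are closed under conjugation. -/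
theorem normal_closure_derangements :
    (Subgroup.closure {g : G | ∀ ω : Ω, g • ω ≠ ω}).Normal := by
  refine ⟨fun d hd g => ?_⟩
  have h1 : Subgroup.closure {g : G | ∀ ω : Ω, g • ω ≠ ω} ≤
      (Subgroup.closure {g : G | ∀ ω : Ω, g • ω ≠ ω}).comap (MulAut.conj g).toMonoidHom :=
    (Subgroup.closure_le _).2 fun s hs => Subgroup.subset_closure fun ω e => hs (g⁻¹ • ω) (by
      have e : (g * s * g⁻¹) • ω = ω := e
      rw [mul_smul, mul_smul, ← eq_inv_smul_iff] at e
      exact e)
  exact h1 hd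

variable [Finite G] [Finite Ω]

/-- Burnside's count for the subgroup generated by the derangements. -/
theorem oneFix_derangements [Nonempty Ω] (htrans : IsPretransitive G Ω) :
    OneFix (Subgroup.closure {g : G | ∀ ω : Ω, g • ω ≠ ω}) Ω := by
  classical
  set D := Subgroup.closure {g : G | ∀ ω : Ω, g • ω ≠ ω} with hD
  haveI : Fintype G := Fintype.ofFinite G
  haveI : Fintype D := Fintype.ofFinite D
  haveI : Fintype Ω := Fintype.ofFinite Ω
  let f : G → ℕ := fun g => Fintype.card (fixedBy Ω g)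
  have hG : ∑ g, f g = Fintype.card G := by
    haveI := htrans
    have h1 := sum_card_fixedBy_eq_card_orbits_mul_card_group G Ω
    haveI : Subsingleton (orbitRel.Quotient G Ω) := (pretransitive_iff_subsingleton_quotient G Ω).1 htrans
    haveI : Nonempty (orbitRel.Quotient G Ω) := ⟨Quotient.mk'' (Classical.arbitrary Ω)⟩
    have h2 : Fintype.card (orbitRel.Quotient G Ω) = 1 :=
      le_antisymm (Fintype.card_le_one_iff_subsingleton.2 inferInstance) Fintype.card_pos
    rw [h2, one_mul] at h1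
    exact h1
  have hDsum : ∑ g ∈ Finset.univ.filter (· ∈ D), f g =
      Fintype.card (orbitRel.Quotient D Ω) * Fintype.card D := by
    rw [← sum_card_fixedBy_eq_card_orbits_mul_card_group D Ω,
      Finset.sum_subtype (p := (· ∈ D)) (Finset.univ.filter (· ∈ D)) (fun x => by simp) f]
    exact Finset.sum_congr rfl fun d _ => Fintype.card_congr (Equiv.refl _)
  have hpos : ∀ g ∈ Finset.univ.filter (fun g => g ∉ D), 1 ≤ f g := fun g hg => by
    by_contra h0
    refine (Finset.mem_filter.1 hg).2 (Subgroup.subset_closure fun ω e => h0 ?_)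
    exact Fintype.card_pos_iff.2 ⟨⟨ω, e⟩⟩
  have hc : (Finset.univ.filter (· ∈ D)).card = Fintype.card D := (Fintype.card_subtype _).symm
  have hsplit := Finset.sum_filter_add_sum_filter_not Finset.univ (· ∈ D) f
  have hsplit' := Finset.card_filter_add_card_filter_not (s := (Finset.univ : Finset G)) (· ∈ D)
  have hle := Finset.sum_le_sum hpos
  rw [← Finset.card_eq_sum_ones] at hle
  rw [hG, hDsum] at hsplit
  rw [hc, Finset.card_univ] at hsplit'
  have ho : Fintype.card (orbitRel.Quotient D Ω) = 1 := by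
    haveI : Nonempty (orbitRel.Quotient D Ω) := ⟨Quotient.mk'' (Classical.arbitrary Ω)⟩
    have h1 : 0 < Fintype.card (orbitRel.Quotient D Ω) := Fintype.card_pos
    refine le_antisymm (Nat.le_of_mul_le_mul_right (c := Fintype.card D) ?_ Fintype.card_pos) h1
    rw [one_mul]
    omega
  rw [ho, one_mul] at hsplit
  refine ⟨normal_closure_derangements, fun a b => ?_, fun g hg x y hx hy => ?_⟩
  · haveI : Subsingleton (orbitRel.Quotient D Ω) := Fintype.card_le_one_iff_subsingleton.1 ho.le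
    obtain ⟨d, hd⟩ := orbitRel_apply.1 (Quotient.exact' (Subsingleton.elim
      (Quotient.mk'' b : orbitRel.Quotient D Ω) (Quotient.mk'' a)))
    exact ⟨d, d.2, hd⟩
  · have hg' : g ∈ Finset.univ.filter (fun g => g ∉ D) := Finset.mem_filter.2 ⟨Finset.mem_univ _, hg⟩
    have h1 : f g ≤ 1 := by
      by_contra h2
      have h3 := Finset.sum_lt_sum hpos ⟨g, hg', not_le.1 h2⟩
      rw [← Finset.card_eq_sum_ones] at h3
      omega
    exact congrArg Subtype.val ((Fintype.card_le_one_iff (α := fixedBy Ω g)).1 h1 ⟨x, hx⟩ ⟨y, hy⟩)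

variable [FaithfulSMul G Ω] {D S X : Subgroup G} {a : Ω}

/-- The regular subgroup inside the normal subgroup. -/
theorem Reg.ccData (h : Reg D a S X) : CCData (S.subgroupOf D) a where
  onto b := by
    obtain ⟨s, hs, hsb⟩ := h.onto b
    exact ⟨⟨s, h.le hs⟩, Subgroup.mem_subgroupOf.2 hs, hsb⟩
  free t ht hta := Subtype.ext (h.free t (Subgroup.mem_subgroupOf.1 ht) hta)
  comm s hs t ht := Subtype.ext (h.comm s (Subgroup.mem_subgroupOf.1 hs) t (Subgroup.mem_subgroupOf.1 ht))
  cent u hu hu1 c hc := Subgroup.mem_subgroupOf.2 (h.cent u (Subgroup.mem_subgroupOf.1 hu)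
    (fun e => hu1 (Subtype.ext e)) c c.2 (congrArg Subtype.val hc))

/-- A representative in the point stabiliser of every coset of the transitive normal subgroup. -/
theorem OneFix.exists_rep (h : OneFix D Ω) (a : Ω) (q : G ⧸ D) : ∃ x : G, x • a = a ∧ (x : G ⧸ D) = q := by
  haveI := h.normal
  obtain ⟨g, rfl⟩ := QuotientGroup.mk_surjective q
  obtain ⟨d, hd, hda⟩ := h.trans (g • a) a
  refine ⟨d * g, by rw [mul_smul, hda], QuotientGroup.eq.2 ?_⟩
  simpa [mul_assoc] using h.normal.conj_mem _ (inv_mem hd) g⁻¹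

/-- Translates of one point by representatives lie in distinct orbits. -/
theorem OneFix.rep_inj (h : OneFix D Ω) {b : Ω} (hb : b ≠ a) {x y d : G} (hx : x • a = a) (hy : y • a = a)
    (hd : d ∈ D) (hda : d • a = a) (e : d • x • b = y • b) : (x : G ⧸ D) = y := by
  haveI := h.normal
  have h1 : x⁻¹ * d⁻¹ * y ∈ D := by
    refine by_contra fun hn => hb (h.uniq _ hn b a ?_ ?_)
    · rw [mul_smul, mul_smul, ← e, inv_smul_smul, inv_smul_smul]
    · rw [mul_smul, mul_smul, hy, inv_smul_eq_iff.2 hda.symm, inv_smul_eq_iff.2 hx.symm]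
  refine QuotientGroup.eq.2 ?_
  have h2 := mul_mem (h.normal.conj_mem d hd x⁻¹) h1
  simpa [mul_assoc] using h2

/-- The stabiliser in the normal subgroup has many orbits. -/
theorem Reg.orbits (h : Reg D a S X) {b : Ω} (hb : b ≠ a) :
    D.index + 1 ≤ Nat.card (orbitRel.Quotient (stabilizer D a) Ω) := by
  haveI := h.one.normal
  choose x hxa hxq using h.one.exists_rep a
  let f : Option (G ⧸ D) → orbitRel.Quotient (stabilizer D a) Ω := fun o =>
    Option.elim o (Quotient.mk'' a) fun q => Quotient.mk'' (x q • b)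
  have hne : ∀ q, (Quotient.mk'' a : orbitRel.Quotient (stabilizer D a) Ω) ≠ Quotient.mk'' (x q • b) := fun q e => by
    obtain ⟨⟨d, hd⟩, hdb⟩ := orbitRel_apply.1 (Quotient.exact' e.symm)
    have hdb : d • a = x q • b := hdb
    rw [mem_stabilizer_iff.1 hd] at hdb
    exact hb (smul_left_cancel (x q) (hdb.symm.trans (hxa q).symm))
  have hf : Function.Injective f := by
    rintro (_ | p) (_ | q) e
    · rfl
    · exact absurd e (hne q)
    · exact absurd e.symm (hne p)
    · obtain ⟨⟨d, hd⟩, hdb⟩ := orbitRel_apply.1 (Quotient.exact' e)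
      have := h.one.rep_inj hb (hxa q) (hxa p) d.2 (mem_stabilizer_iff.1 hd) hdb
      rw [hxq, hxq] at this
      rw [this]
  exact le_trans (le_of_eq (by rw [Finite.card_option]; rfl)) (Nat.card_le_card_of_injective f hf)

/-- The stabiliser of the subgroup is small. -/
theorem Reg.card_pairStab (h : Reg D a S X) {b : Ω} (hb : b ≠ a) :
    D.index * Nat.card (pairStab (S.subgroupOf D) a) ≤ Nat.card Ω - 1 := by
  classical
  haveI := h.one.normal
  have hcc := h.ccData
  choose x hxa hxq using h.one.exists_rep a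
  haveI : Fintype Ω := Fintype.ofFinite Ω
  let f : (G ⧸ D) × pairStab (S.subgroupOf D) a → {y : Ω // y ≠ a} := fun p =>
    ⟨(p.2 : D) • x p.1 • b, fun e => hb (by
      have h1 : (p.2 : D) • a = a := p.2.2.2
      have h2 := smul_left_cancel _ (e.trans h1.symm)
      exact smul_left_cancel (x p.1) (h2.trans (hxa p.1).symm))⟩
  have hf : Function.Injective f := by
    rintro ⟨p, k⟩ ⟨q, l⟩ e
    have e : (k : D) • x p • b = (l : D) • x q • b := congrArg Subtype.val e
    have hkl : (l⁻¹ * k : pairStab (S.subgroupOf D) a).1 • x p • b = x q • b := by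
      show ((l : D)⁻¹ * k) • x p • b = _
      rw [mul_smul, e, inv_smul_smul]
    have hpq : p = q := by
      have := h.one.rep_inj hb (hxa p) (hxa q) (l⁻¹ * k : pairStab (S.subgroupOf D) a).1.2
        (mem_stabilizer_iff.1 (l⁻¹ * k : pairStab (S.subgroupOf D) a).2.2) hkl
      rwa [hxq, hxq] at this
    subst hpq
    obtain ⟨t, ht, htb⟩ := hcc.onto (x p • b)
    have ht1 : t ≠ 1 := fun e1 => hb (smul_left_cancel (x p) (by
      rw [← htb, e1, one_smul, hxa p]))
    have hk1 : (l⁻¹ * k : pairStab (S.subgroupOf D) a) = 1 := by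
      refine Subtype.ext (hcc.eq_one_of_commute (l⁻¹ * k : pairStab (S.subgroupOf D) a).2 ht ht1 ?_)
      set κ : pairStab (S.subgroupOf D) a := l⁻¹ * k with hκ
      have h1 : (cj (S.subgroupOf D) a κ ⟨t, ht⟩ : D) • a = t • a := by
        rw [cj_apply, mul_smul, mul_smul, mem_stabilizer_iff.1 (inv_mem κ.2.2), htb]
        exact hkl
      have h2 : (cj (S.subgroupOf D) a κ ⟨t, ht⟩ : D) = t := by
        refine (inv_mul_eq_one.1 (hcc.free _ (mul_mem (inv_mem ht) (cj _ _ κ ⟨t, ht⟩).2) ?_)).symm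
        rw [mul_smul, h1, inv_smul_smul]
      exact mul_inv_eq_iff_eq_mul.1 h2
    rw [(inv_mul_eq_one.1 hk1).symm]
  have h1 := Nat.card_le_card_of_injective f hf
  rw [Nat.card_prod, Nat.card_eq_fintype_card (α := {y : Ω // y ≠ a}), Fintype.card_subtype_compl,
    Fintype.card_subtype_eq, ← Nat.card_eq_fintype_card] at h1
  exact h1

/-- An element of the normal subgroup fixing two points is trivial. -/
theorem Reg.eq_one_of_fix (h : Reg D a S X) (he4 : 4 ≤ D.index) {g : D} (hga : g • a = a) {b : Ω}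
    (hb : b ≠ a) (hgb : g • b = b) : g = 1 := by
  classical
  set T := S.subgroupOf D
  have hcc : CCData T a := h.ccData
  set e := D.index
  have he : 4 ≤ e := he4
  have h5 : 5 ≤ Nat.card (orbitRel.Quotient (stabilizer D a) Ω) := le_trans (by omega) (h.orbits hb)
  set K := pairStab T a
  haveI : Fintype K := Fintype.ofFinite K
  haveI : Fintype T := Fintype.ofFinite T
  have hk1 : Nat.card K ≤ e + 1 := by
    by_contra hlt
    have h1 := h.card_pairStab hb
    have h2 : e * (e + 2) ≤ e * Nat.card K := Nat.mul_le_mul_left _ (by omega)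
    have h3 := h.big
    have h4 : (e + 1) ^ 2 = e * (e + 2) + 1 := by ring
    change e * Nat.card K ≤ _ at h1
    change Nat.card Ω < (e + 1) ^ 2 at h3
    have h5' : 1 ≤ Nat.card Ω := by
      haveI : Nonempty Ω := ⟨a⟩
      exact Nat.card_pos
    have h6 : e * (e + 2) ≤ Nat.card Ω - 1 := h2.trans h1
    nlinarith [Nat.sub_add_cancel h5']
  -- points as elements of the subgroup
  have hinj : ∀ s t : T, (s : D) • a = (t : D) • a → s = t := fun s t e => by
    refine Subtype.ext (inv_mul_eq_one.1 (hcc.free _ (mul_mem (inv_mem s.2) t.2) ?_))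
    rw [mul_smul, ← e, inv_smul_smul]
  have hcj : ∀ (k : K) (t : T), (k : D) • (t : D) • a = (cj T a k t : D) • a := fun k t => by
    rw [cj_apply, mul_smul, mul_smul, mem_stabilizer_iff.1 (inv_mem k.2.2)]
  have hfp : ∀ (k : K) (t : T), cj T a k t = t → t ≠ 1 → k = 1 := fun k t e ht =>
    Subtype.ext (hcc.eq_one_of_commute k.2 t.2 (fun e1 => ht (Subtype.ext e1))
      (mul_inv_eq_iff_eq_mul.1 ((cj_apply k t).symm.trans (congrArg Subtype.val e))))
  have hcancel : ∀ (k l : K) (t : T), cj T a k t = cj T a l t → t ≠ 1 → k = l := fun k l t e ht => by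
    refine (inv_mul_eq_one.1 (hfp (l⁻¹ * k) t ?_ ht)).symm
    rw [cj_mul, e, ← cj_mul, inv_mul_cancel, cj_one]
  -- the images
  have himg : ∀ w : T, ∃ k : K, g • (w : D) • a = (cj T a k w : D) • a := fun w => by
    obtain ⟨k, hk, hkw⟩ := hcc.orbit_eq h5 ((w : D) • a) hga
    exact ⟨⟨k, hk⟩, by rw [← hkw, ← hcj]⟩
  choose κ hκ using himg
  -- the relation
  have hrel : ∀ u w : T, g • (u : D) • a = (u : D) • a →
      ∃ l : K, cj T a l (u⁻¹ * w) = u⁻¹ * cj T a (κ w) w := fun u w hu => by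
    have hc : ((u : D)⁻¹ * g * u) • a = a := by
      rw [mul_smul, mul_smul, hu, inv_smul_smul]
    obtain ⟨l, hl, hlw⟩ := hcc.orbit_eq h5 (((u⁻¹ * w : T) : D) • a) hc
    refine ⟨⟨l, hl⟩, hinj _ _ ?_⟩
    rw [← hcj, show ((⟨l, hl⟩ : K) : D) • _ = _ from hlw, Subgroup.coe_mul, Subgroup.coe_inv, mul_smul, mul_smul,
      mul_smul, smul_inv_smul, hκ, ← mul_smul]
    rfl
  choose! lam hlam using hrel
  let M : Finset T := Finset.univ.filter fun w : T => g • (w : D) • a ≠ (w : D) • a
  let F : Finset T := (Finset.univ.filter fun w : T => g • (w : D) • a = (w : D) • a).erase 1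
  have hcardMF : M.card + F.card = Nat.card Ω - 1 := by
    have h1 := Finset.card_filter_add_card_filter_not (s := (Finset.univ : Finset T))
      (fun w : T => g • (w : D) • a = (w : D) • a)
    rw [Finset.card_univ, ← Nat.card_eq_fintype_card, hcc.card_eq] at h1
    have h2 : F.card = (Finset.univ.filter fun w : T => g • (w : D) • a = (w : D) • a).card - 1 :=
      Finset.card_erase_of_mem (Finset.mem_filter.2 ⟨Finset.mem_univ _, by rw [Subgroup.coe_one, one_smul, hga]⟩)
    have h3 : 0 < (Finset.univ.filter fun w : T => g • (w : D) • a = (w : D) • a).card :=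
      Finset.card_pos.2 ⟨1, Finset.mem_filter.2 ⟨Finset.mem_univ _, by rw [Subgroup.coe_one, one_smul, hga]⟩⟩
    simp only [M, ne_eq]
    omega
  obtain ⟨t, ht, htb⟩ := hcc.onto b
  have hu : (⟨t, ht⟩ : T) ∈ F := Finset.mem_erase.2
    ⟨fun e => hb (by rw [← htb, show t = 1 from congrArg Subtype.val e, one_smul]),
      Finset.mem_filter.2 ⟨Finset.mem_univ _, by show g • t • a = t • a; rw [htb, hgb]⟩⟩
  have hFmem : ∀ w ∈ F, w ≠ 1 ∧ g • (w : D) • a = (w : D) • a := fun w hw =>
    ⟨(Finset.mem_erase.1 hw).1, (Finset.mem_filter.1 (Finset.mem_erase.1 hw).2).2⟩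
  by_contra hg1
  obtain ⟨w₀, hw₀⟩ : M.Nonempty := by
    rw [Finset.nonempty_iff_ne_empty]
    intro hM
    refine hg1 (Subtype.ext (eq_of_smul_eq_smul fun y : Ω => ?_))
    obtain ⟨s, hs, rfl⟩ := hcc.onto y
    rw [Subgroup.coe_one, one_smul]
    by_contra hne
    exact (Finset.notMem_empty (⟨s, hs⟩ : T)) (hM ▸ Finset.mem_filter.2 ⟨Finset.mem_univ _, hne⟩)
  have hκ1 : ∀ w ∈ M, κ w ≠ 1 := fun w hw e => (Finset.mem_filter.1 hw).2 (by rw [hκ, e, cj_one])
  have hlam1 : ∀ u ∈ F, ∀ w ∈ M, lam u w ≠ 1 ∧ lam u w ≠ κ w := fun u hu w hw => by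
    have h1 := hlam u w (hFmem u hu).2
    constructor
    · intro e
      rw [e, cj_one, mul_right_inj] at h1
      exact (Finset.mem_filter.1 hw).2 (by rw [hκ, ← h1])
    · intro e
      rw [e, map_mul, mul_left_inj, map_inv, inv_inj] at h1
      exact hκ1 w hw (hfp _ u h1 (hFmem u hu).1)
  set u₀ : T := ⟨t, ht⟩
  have hM : M.card ≤ ((Finset.univ : Finset K).erase 1).offDiag.card := by
    refine Finset.card_le_card_of_injOn (fun w => (κ w, lam u₀ w)) (fun w hw => ?_) fun w hw w' hw' e => ?_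
    · simp only [Finset.mem_coe, Finset.mem_offDiag, Finset.mem_erase, Finset.mem_univ, and_true]
      exact ⟨hκ1 w hw, (hlam1 u₀ hu w hw).1, (hlam1 u₀ hu w hw).2.symm⟩
    · obtain ⟨e1, e2⟩ := Prod.mk.injEq .. ▸ e
      have h1 := hlam u₀ w (hFmem u₀ hu).2
      have h2 := hlam u₀ w' (hFmem u₀ hu).2
      rw [← e1, ← e2] at h2
      by_contra hne
      refine (hlam1 u₀ hu w hw).2 (hcancel _ _ (w⁻¹ * w') ?_ fun e3 => hne (inv_mul_eq_one.1 e3))
      rw [show w⁻¹ * w' = (u₀⁻¹ * w)⁻¹ * (u₀⁻¹ * w') by group, map_mul, map_inv, h1, h2,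
        show (u₀⁻¹ * w)⁻¹ * (u₀⁻¹ * w') = w⁻¹ * w' by group, map_mul, map_inv]
      group
  have hF : F.card ≤ (((Finset.univ : Finset K).erase 1).erase (κ w₀)).card := by
    refine Finset.card_le_card_of_injOn (fun u => lam u w₀) (fun u hu => ?_) fun u hu u' hu' e => ?_
    · simp only [Finset.mem_coe, Finset.mem_erase, Finset.mem_univ, and_true]
      exact ⟨(hlam1 u hu w₀ hw₀).2, (hlam1 u hu w₀ hw₀).1⟩
    · have e : lam u w₀ = lam u' w₀ := e
      have h1 := hlam u w₀ (hFmem u hu).2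
      have h2 := hlam u' w₀ (hFmem u' hu').2
      rw [← e] at h2
      by_contra hne
      refine (hlam1 u hu w₀ hw₀).1 (hfp _ ((u⁻¹ * w₀) * (u'⁻¹ * w₀)⁻¹) ?_ fun e3 => hne ?_)
      · rw [map_mul, map_inv, h1, h2]
        group
      · rw [mul_inv_eq_one, mul_left_inj, inv_inj] at e3
        exact e3
  rw [Finset.offDiag_card, Finset.card_erase_of_mem (Finset.mem_univ _), Finset.card_univ,
    ← Nat.card_eq_fintype_card] at hM
  rw [Finset.card_erase_of_mem (Finset.mem_erase.2 ⟨hκ1 w₀ hw₀, Finset.mem_univ _⟩),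
    Finset.card_erase_of_mem (Finset.mem_univ _), Finset.card_univ, ← Nat.card_eq_fintype_card] at hF
  have hKpos : 0 < Nat.card K := Nat.card_pos
  set k := Nat.card K
  have h1 : (k - 1) * (k - 1) ≤ e * (k - 1) := Nat.mul_le_mul_right _ (by omega)
  have h2 : k - 1 ≤ (k - 1) * (k - 1) := Nat.le_mul_self _
  have h3 : e * (k - 1) + e = e * k := by
    rw [← Nat.mul_succ, Nat.succ_eq_add_one, Nat.sub_add_cancel hKpos]
  have h4 := h.card_pairStab hb
  change e * k ≤ _ at h4
  omega

/-- No element outside the identity fixes two points. -/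
theorem Reg.fixedBy_le (h : Reg D a S X) (he4 : 4 ≤ D.index) {g : G} (hg : g ≠ 1) :
    Nat.card (fixedBy Ω g) ≤ 1 := by
  refine Finite.card_le_one_iff_subsingleton.2 ⟨fun ⟨x, hx⟩ ⟨y, hy⟩ => Subtype.ext ?_⟩
  by_contra hne
  have hgD : g ∈ D := by_contra fun hn => hne (h.one.uniq g hn x y hx hy)
  obtain ⟨d, hd, hdx⟩ := h.one.trans x a
  have h1 := h.eq_one_of_fix he4 (g := ⟨d * g * d⁻¹, mul_mem (mul_mem hd hgD) (inv_mem hd)⟩)
    (show (d * g * d⁻¹) • a = a by
      rw [mul_smul, mul_smul, inv_smul_eq_iff.2 hdx.symm, show g • x = x from hx, hdx])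
    (b := d • y) (fun e => hne (smul_left_cancel d (hdx.trans e.symm)))
    (show (d * g * d⁻¹) • d • y = d • y by
      rw [mul_smul, mul_smul, inv_smul_smul, show g • y = y from hy])
  exact hg (conj_eq_one_iff.1 (congrArg Subtype.val h1))

/-- The regular subgroup is normal. -/
theorem Reg.normal (h : Reg D a S X) (he4 : 4 ≤ D.index) {b : Ω} (hb : b ≠ a) : S.Normal := by
  have hD : D ≤ Subgroup.normalizer (S : Set G) := fun g hg => by
    obtain ⟨s, hs, hsg⟩ := h.onto (g • a)
    have hxD : s⁻¹ * g ∈ D := mul_mem (inv_mem (h.le hs)) hg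
    have hxa : (⟨s⁻¹ * g, hxD⟩ : D) • a = a := by
      show (s⁻¹ * g) • a = a
      rw [mul_smul, ← hsg, inv_smul_smul]
    have h5 : 5 ≤ Nat.card (orbitRel.Quotient (stabilizer D a) Ω) := le_trans (by omega) (h.orbits hb)
    obtain ⟨k, hk, hkb⟩ := h.ccData.orbit_eq h5 b hxa
    have h1 : k⁻¹ * ⟨s⁻¹ * g, hxD⟩ = 1 := h.eq_one_of_fix he4
      (by rw [mul_smul, hxa, inv_smul_eq_iff, mem_stabilizer_iff.1 hk.2]) hb
      (by rw [mul_smul, inv_smul_eq_iff, hkb])
    have h2 : (k : G) = s⁻¹ * g := congrArg Subtype.val (inv_mul_eq_one.1 h1)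
    have h3 : (k : G) ∈ Subgroup.normalizer (S : Set G) := by
      refine Subgroup.mem_normalizer_iff.2 fun c => ⟨fun hc => ?_, fun hc => ?_⟩
      · exact Subgroup.mem_subgroupOf.1 ((Subgroup.mem_normalizer_iff.1 hk.1 ⟨c, h.le hc⟩).1
          (Subgroup.mem_subgroupOf.2 hc))
      · have hcD : c ∈ D := by simpa [mul_assoc] using mul_mem (mul_mem (inv_mem k.2) (h.le hc)) k.2
        exact Subgroup.mem_subgroupOf.1 ((Subgroup.mem_normalizer_iff.1 hk.1 ⟨c, hcD⟩).2
          (Subgroup.mem_subgroupOf.2 hc))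
    rw [h2] at h3
    simpa using mul_mem (Subgroup.le_normalizer hs : s ∈ Subgroup.normalizer (S : Set G)) h3
  exact Subgroup.normalizer_eq_top_iff.1 (top_le_iff.1 (h.cover ▸ sup_le h.norm hD))

/-- The action is primitive. -/
theorem Reg.isPreprimitive (h : Reg D a S X) [IsPretransitive G Ω] [Nontrivial Ω] : IsPreprimitive G Ω := by
  rw [← isCoatom_stabilizer_iff_preprimitive G a]
  refine ⟨fun e => ?_, fun M hM => ?_⟩
  · obtain ⟨b, hb⟩ := exists_ne a
    obtain ⟨g, hg⟩ := exists_smul_eq G a b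
    exact hb (hg.symm.trans (mem_stabilizer_iff.1 (e ▸ Subgroup.mem_top g)))
  have hdec : ∀ g : G, ∃ s ∈ S, s⁻¹ * g ∈ stabilizer G a := fun g => by
    obtain ⟨s, hs, hsg⟩ := h.onto (g • a)
    exact ⟨s, hs, by rw [mem_stabilizer_iff, mul_smul, ← hsg, inv_smul_smul]⟩
  have hU : X ≤ Subgroup.normalizer ((M ⊓ S : Subgroup G) : Set G) := fun x hx => by
    have h1 := Subgroup.mem_normalizer_iff.1 (h.norm hx)
    have hxM : x ∈ M := hM.le (h.stab hx)
    refine Subgroup.mem_normalizer_iff.2 fun c => ?_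
    simp only [Subgroup.mem_inf]
    refine and_congr ⟨fun hc => mul_mem (mul_mem hxM hc) (inv_mem hxM), fun hc => ?_⟩ (h1 c)
    simpa [mul_assoc] using mul_mem (mul_mem (inv_mem hxM) hc) hxM
  rcases h.irr (M ⊓ S) inf_le_right hU with e | e
  · refine absurd hM (fun hlt => hlt.not_ge fun g hg => ?_)
    obtain ⟨s, hs, hsg⟩ := hdec g
    have hsM : s ∈ M := by
      have := mul_mem hg (inv_mem (hM.le hsg))
      simpa using this
    have hs1 : s = 1 := Subgroup.mem_bot.1 (e ▸ ⟨hsM, hs⟩)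
    simpa [hs1] using hsg
  · refine top_le_iff.1 fun g _ => ?_
    obtain ⟨s, hs, hsg⟩ := hdec g
    have hsM : s ∈ M := (e.ge hs).1
    simpa using mul_mem hsM (hM.le hsg)

/-- A large index forces prime power degree. -/
theorem OneFix.prime_pow (h : OneFix D Ω) (h2 : 2 ≤ Nat.card Ω) (hbig : Nat.card Ω < (D.index + 1) ^ 2) :
    ∃ r k : ℕ, r.Prime ∧ 0 < k ∧ Nat.card Ω = r ^ k := by
  set n := Nat.card Ω with hn
  have hle1 : ∀ r, r.Prime → r ∣ n → D.index + 1 ≤ r ^ n.factorization r ∧ r ^ n.factorization r ∣ n :=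
    fun r hr hrn => by
    haveI := Fact.mk hr
    have h1 : 0 < n.factorization r := hr.factorization_pos_of_dvd (by omega) hrn
    have h2 : 2 ≤ r ^ n.factorization r := hr.two_le.trans (Nat.le_self_pow h1.ne' r)
    have h4 : D.index ∣ r ^ n.factorization r - 1 := h.index_dvd r
    have h3 := Nat.le_of_dvd (by omega) h4
    exact ⟨by omega, Nat.ordProj_dvd n r⟩
  obtain ⟨r, hr, hrn⟩ := Nat.exists_prime_and_dvd (show n ≠ 1 by omega)
  have huniq : ∀ {d : ℕ}, d.Prime → d ∣ n → d = r := fun {d} hd hdn => by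
    by_contra hne
    have hdvd : d ^ n.factorization d * r ^ n.factorization r ∣ n :=
      Nat.Coprime.mul_dvd_of_dvd_of_dvd (((Nat.coprime_primes hd hr).2 hne).pow _ _) (hle1 d hd hdn).2
        (hle1 r hr hrn).2
    have := (Nat.mul_le_mul (hle1 d hd hdn).1 (hle1 r hr hrn).1).trans (Nat.le_of_dvd (by omega) hdvd)
    rw [← sq] at this
    omega
  have hnk := Nat.eq_prime_pow_of_unique_prime_dvd (show n ≠ 0 by omega) huniq
  refine ⟨r, _, hr, Nat.pos_of_ne_zero fun e => ?_, hnk⟩
  rw [e, pow_zero] at hnk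
  omega

/-- The dichotomy. -/
theorem derangements_dichotomy (htrans : IsPretransitive G Ω) (h16 : 16 ≤ Nat.card Ω) :
    (IsPreprimitive G Ω ∧ (IsPretransitive G Ω ∧ (∃ g : G, g ≠ 1 ∧ ∃ ω : Ω, g • ω = ω) ∧
      ∀ g : G, g ≠ 1 → Nat.card (fixedBy Ω g) ≤ 1)) ∨
    ((Subgroup.closure {g : G | ∀ ω : Ω, g • ω ≠ ω}).index + 1) ^ 2 ≤ Nat.card Ω := by
  haveI : Nonempty Ω := (Nat.card_pos_iff.1 (by omega)).1
  haveI : Nontrivial Ω := Finite.one_lt_card_iff_nontrivial.1 (by omega)
  set D := Subgroup.closure {g : G | ∀ ω : Ω, g • ω ≠ ω} with hD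
  have h : OneFix D Ω := oneFix_derangements htrans
  refine or_iff_not_imp_right.2 fun hle => ?_
  have hbig : Nat.card Ω < (D.index + 1) ^ 2 := not_le.1 hle
  have he4 : 4 ≤ D.index := by
    by_contra hlt
    have h1 : (D.index + 1) ^ 2 ≤ 4 ^ 2 := Nat.pow_le_pow_left (by omega) 2
    omega
  obtain ⟨r, k, hr, hk, hnk⟩ := h.prime_pow (by omega) hbig
  haveI := Fact.mk hr
  obtain ⟨a⟩ := ‹Nonempty Ω›
  obtain ⟨S, X, hR⟩ := h.exists_reg hnk hk hbig a
  refine ⟨hR.isPreprimitive, htrans, ?_, fun g hg => hR.fixedBy_le he4 hg⟩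
  have hne : D ≠ ⊤ := fun e => by
    rw [e, Subgroup.index_top] at hbig
    omega
  obtain ⟨x, -, hx⟩ := SetLike.exists_of_lt (lt_top_iff_ne_top.2 hne)
  obtain ⟨d, hd, hda⟩ := h.trans (x • a) a
  refine ⟨d * x, fun e => hx ?_, a, by rw [mul_smul, hda]⟩
  rw [eq_inv_of_mul_eq_one_right e]
  exact inv_mem hd

end Cfsg.Agent.Perm.Derange
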