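import Cfsg.Agent.Lib.Perm.Derange.Main
import Cfsg.Agent.S0675
import Cfsg.Agent.S0144

/-!
A primitive group without abelian normal subgroups: the subgroup generated by the derangements has small index.
-/

set_option autoImplicit false
set_option linter.unusedSectionVars false
set_option linter.style.haveILetI false

namespace Cfsg.Agent.Perm.Derange

open MulAction

universe u v

variable {G : Type u} {Ω : Type v} [Group G] [MulAction G Ω] [Finite G] [Finite Ω] [FaithfulSMul G Ω]

/-- A nontrivial solvable normal subgroup contains a nontrivial abelian normal subgroup of the whole group. -/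
theorem exists_abelian_normal (N : Subgroup G) [hN : N.Normal] (hs : Group.IsSolvable N) (hne : N ≠ ⊥) :
    ∃ A : Subgroup G, A.Normal ∧ A ≠ ⊥ ∧ IsMulCommutative A := by
  classical
  let L : ℕ → Subgroup G := fun m => (derivedSeries N m).map N.subtype
  have hex : ∃ m, derivedSeries N m = ⊥ := (Group.isSolvable_def N).1 hs
  have hnorm : ∀ m, (L m).Normal := fun m => by
    induction m with
    | zero =>
      show ((derivedSeries N 0).map N.subtype).Normal
      rw [derivedSeries_zero, ← MonoidHom.range_eq_map, Subgroup.range_subtype]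
      exact hN
    | succ m ih =>
      show ((derivedSeries N (m + 1)).map N.subtype).Normal
      rw [derivedSeries_succ, Subgroup.map_commutator]
      exact @Subgroup.commutator_normal G _ (L m) (L m) ih ih
  obtain ⟨j, hj⟩ : ∃ j, Nat.find hex = j + 1 := by
    refine Nat.exists_eq_succ_of_ne_zero fun h0 => hne ?_
    have h1 := Nat.find_spec hex
    rw [h0, derivedSeries_zero] at h1
    exact (Subgroup.eq_bot_iff_forall N).2 fun x hx => congrArg Subtype.val
      ((Subgroup.eq_bot_iff_forall _).1 h1 ⟨x, hx⟩ (Subgroup.mem_top _))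
  refine ⟨L j, hnorm j, fun e => Nat.find_min hex (show j < Nat.find hex by omega)
    ((Subgroup.map_eq_bot_iff_of_injective _ N.subtype_injective).1 e), ?_⟩
  have h1 : ⁅L j, L j⁆ = ⊥ := by
    rw [← Subgroup.map_commutator, ← derivedSeries_succ, ← hj, Nat.find_spec hex, Subgroup.map_bot]
  exact ⟨⟨fun x y => Subtype.ext
    (Subgroup.mem_centralizer_iff.1 ((Subgroup.commutator_eq_bot_iff_le_centralizer.1 h1) y.2) x x.2)⟩⟩

/-- A group of permutations of at most four points is solvable. -/
theorem isSolvable_of_le_four (h : Nat.card Ω ≤ 4) : Group.IsSolvable G := by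
  have hc : Nat.card G ≤ 24 := by
    refine (Nat.card_le_card_of_injective _ (MulAction.toPerm_injective (α := G) (β := Ω))).trans ?_
    rw [Nat.card_perm]
    exact (Nat.factorial_le h).trans (by decide)
  have key : ∀ m ∈ Finset.Icc 1 24, ∃ p ∈ [2, 3, 5, 7, 11, 13, 17, 19, 23], ∃ q ∈ [2, 3, 5, 7, 11],
      ∃ a < 5, ∃ b < 3, m = p ^ a * q ^ b := by decide +kernel
  obtain ⟨p, hp, q, hq, a, -, b, -, he⟩ := key (Nat.card G) (Finset.mem_Icc.mpr ⟨Nat.card_pos, hc⟩)
  refine Cfsg.Agent.S0144.result p q a b ?_ ?_ he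
  · fin_cases hp <;> norm_num
  · fin_cases hq <;> norm_num

/-- In prime degree a subgroup of index at least two as in `OneFix` is solvable. -/
theorem OneFix.solvable_of_prime {D : Subgroup G} (h : OneFix D Ω) (hp : (Nat.card Ω).Prime) (hD : D ≠ ⊤) :
    Group.IsSolvable D := by
  classical
  haveI := h.normal
  haveI : Fintype Ω := Fintype.ofFinite Ω
  let φ : D →* Equiv.Perm Ω := (MulAction.toPermHom G Ω).comp D.subtype
  have hφ : Function.Injective φ := (MulAction.toPerm_injective (α := G) (β := Ω)).comp D.subtype_injective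
  haveI : IsPretransitive φ.range Ω := ⟨fun a b => by
    obtain ⟨d, hd, hdb⟩ := h.trans a b
    exact ⟨⟨φ ⟨d, hd⟩, ⟨d, hd⟩, rfl⟩, hdb⟩⟩
  rcases Cfsg.Agent.S0675.result (α := Ω) (by rw [← Nat.card_eq_fintype_card]; exact hp) φ.range with hs | h2
  · haveI := hs
    exact Group.isSolvable_of_isSolvable_injective (f := φ.rangeRestrict) fun x y e => hφ (congrArg Subtype.val e)
  exfalso
  haveI : Nonempty Ω := (Nat.card_pos_iff.1 hp.pos).1
  obtain ⟨a⟩ := ‹Nonempty Ω›
  haveI : Nontrivial Ω := Finite.one_lt_card_iff_nontrivial.1 hp.one_lt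
  obtain ⟨b, hb⟩ := exists_ne a
  obtain ⟨g, -, hg⟩ := SetLike.exists_of_lt (lt_top_iff_ne_top.2 hD)
  obtain ⟨d₀, hd₀, hda₀⟩ := h.trans (g • a) a
  have hxa : (d₀ * g) • a = a := by rw [mul_smul, hda₀]
  have hx : d₀ * g ∉ D := fun e => hg (by simpa using mul_mem (inv_mem hd₀) e)
  have hxb : (d₀ * g) • b ≠ a := fun e => hb (smul_left_cancel _ (e.trans hxa.symm))
  haveI := h2
  obtain ⟨⟨σ, ⟨d, hd⟩, rfl⟩, h1, h2'⟩ := is_two_pretransitive_iff.1 h2 hb.symm hxb.symm
  have h1 : d • a = a := h1
  have h2' : d • b = (d₀ * g) • b := h2'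
  have := h.rep_inj (a := a) (x := 1) (y := d₀ * g) (d := d) hb (one_smul G a) hxa hd h1 (by rw [one_smul, h2'])
  exact hx (by simpa using QuotientGroup.eq.1 this)

/-- The bound for groups without nontrivial abelian normal subgroups. -/
theorem sq_index_le_of_nonaffine (htrans : IsPretransitive G Ω) (h2 : 2 ≤ Nat.card Ω)
    (hna : ∀ N : Subgroup G, N.Normal → IsMulCommutative N → N = ⊥) :
    ((Subgroup.closure {g : G | ∀ ω : Ω, g • ω ≠ ω}).index + 1) ^ 2 ≤ Nat.card Ω := by
  haveI : Nonempty Ω := (Nat.card_pos_iff.1 (by omega)).1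
  haveI : Nontrivial Ω := Finite.one_lt_card_iff_nontrivial.1 (by omega)
  haveI := htrans
  set D := Subgroup.closure {g : G | ∀ ω : Ω, g • ω ≠ ω} with hD
  have h : OneFix D Ω := oneFix_derangements htrans
  haveI := h.normal
  have hno : ∀ N : Subgroup G, N.Normal → Group.IsSolvable N → N = ⊥ := fun N hN hs => by
    by_contra hne
    obtain ⟨A, hA, hA1, hA2⟩ := @exists_abelian_normal G _ _ N hN hs hne
    exact hA1 (hna A hA hA2)
  by_contra hle
  have hbig : Nat.card Ω < (D.index + 1) ^ 2 := not_le.1 hle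
  obtain ⟨r, k, hr, hk, hnk⟩ := h.prime_pow h2 hbig
  haveI := Fact.mk hr
  obtain ⟨a, b, hab⟩ := exists_pair_ne Ω
  rcases le_or_gt 4 D.index with he4 | he4
  · obtain ⟨S, X, hR⟩ := h.exists_reg hnk hk hbig a
    have hS := hna S (hR.normal he4 hab.symm) ⟨⟨fun s t => Subtype.ext (hR.comm s s.2 t t.2)⟩⟩
    obtain ⟨s, hs, hsb⟩ := hR.onto b
    rw [hS, Subgroup.mem_bot] at hs
    exact hab (by rw [← hsb, hs, one_smul])
  have hG4 : ¬ Nat.card Ω ≤ 4 := fun h4 => by
    haveI := isSolvable_of_le_four (G := G) h4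
    have htop := hno ⊤ inferInstance (Group.isSolvable_of_isSolvable_injective (f := (⊤ : Subgroup G).subtype)
      (Subgroup.subtype_injective _))
    obtain ⟨g, hg⟩ := exists_smul_eq G a b
    have hg1 : g = 1 := Subgroup.mem_bot.1 (htop ▸ Subgroup.mem_top g)
    exact hab (by rw [← hg, hg1, one_smul])
  have hepos : 0 < D.index := Nat.pos_of_ne_zero Subgroup.index_ne_zero_of_finite
  have hdvd : D.index ∣ Nat.card Ω - 1 := by
    have := h.index_dvd r
    rwa [hnk, hr.factorization_pow, Finsupp.single_eq_same, ← hnk] at this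
  have hn16 : Nat.card Ω < 16 := hbig.trans_le ((Nat.pow_le_pow_left (show D.index + 1 ≤ 4 by omega) 2).trans
    (by norm_num))
  have hkey : (Nat.card Ω).Prime ∧ 2 ≤ D.index := by
    interval_cases hi : D.index <;> interval_cases hn : Nat.card Ω <;> first
      | omega
      | (norm_num at hdvd hbig ⊢; done)
      | (exfalso; exact absurd (hnk ▸ (IsPrimePow.pow hr.prime.isPrimePow hk.ne')) (by decide))
  have hDne : D ≠ ⊤ := fun e => by
    have h1 := hkey.2
    rw [e, Subgroup.index_top] at h1
    omega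
  have hDbot := hno D h.normal (h.solvable_of_prime hkey.1 hDne)
  obtain ⟨d, hd, hdb⟩ := h.trans a b
  rw [hDbot, Subgroup.mem_bot] at hd
  exact hab (by rw [← hdb, hd, one_smul])

end Cfsg.Agent.Perm.Derange
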