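import Cfsg.Agent.Lib.Perm.Derange.Basic
import Cfsg.Agent.Lib.Perm.Derange.LinMain

/-!
Prime power degree and large index: a regular abelian Sylow subgroup equal to the centraliser of each of its
non-identity elements.
-/

set_option autoImplicit false
set_option linter.unusedSectionVars false
set_option linter.style.haveILetI false

namespace Cfsg.Agent.Perm.Derange

open MulAction Pointwise

variable {G Ω : Type*} [Group G] [MulAction G Ω]

/-- The stabiliser in `D` of `a` and of the subgroup `S`. -/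
def kerStab (D S : Subgroup G) (a : Ω) : Subgroup G :=
  D ⊓ Subgroup.normalizer (S : Set G) ⊓ stabilizer G a

theorem mem_kerStab {D S : Subgroup G} {a : Ω} {g : G} :
    g ∈ kerStab D S a ↔ g ∈ D ∧ g ∈ Subgroup.normalizer (S : Set G) ∧ g • a = a := by
  simp [kerStab, and_assoc]

/-- The data of the case of prime power degree. -/
structure Reg (D : Subgroup G) (a : Ω) (S X : Subgroup G) : Prop where
  one : OneFix D Ω
  le : S ≤ D
  comm : ∀ s ∈ S, ∀ t ∈ S, s * t = t * s
  free : ∀ s ∈ S, s • a = a → s = 1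
  onto : ∀ b : Ω, ∃ s ∈ S, s • a = b
  cover : X ⊔ D = ⊤
  stab : X ≤ stabilizer G a
  norm : X ≤ Subgroup.normalizer (S : Set G)
  irr : ∀ U : Subgroup G, U ≤ S → X ≤ Subgroup.normalizer (U : Set G) → U = ⊥ ∨ U = S
  semireg : ∀ k ∈ kerStab D S a, ∀ s ∈ S, k * s = s * k → k = 1 ∨ s = 1
  cent : ∀ u ∈ S, u ≠ 1 → ∀ c ∈ D, c * u = u * c → c ∈ S
  big : Nat.card Ω < (D.index + 1) ^ 2

variable [Finite G] [Finite Ω] [FaithfulSMul G Ω]

theorem eq_one_of_commute_trans {S : Subgroup G} {a : Ω} (honto : ∀ b : Ω, ∃ s ∈ S, s • a = b) {g : G}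
    (hga : g • a = a) (hc : ∀ s ∈ S, g * s = s * g) : g = 1 :=
  eq_of_smul_eq_smul fun b : Ω => by
    obtain ⟨s, hs, rfl⟩ := honto b
    rw [smul_smul, hc s hs, mul_smul, hga, one_smul]

/-- Prime power degree with a large index leads to the regular data. -/
theorem OneFix.exists_reg {D : Subgroup G} (h : OneFix D Ω) {r k : ℕ} [Fact r.Prime] (hn : Nat.card Ω = r ^ k)
    (hk : 0 < k) (hbig : Nat.card Ω < (D.index + 1) ^ 2) (a : Ω) : ∃ S X : Subgroup G, Reg D a S X := by
  classical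
  haveI := h.normal
  have hr := (Fact.out : r.Prime)
  haveI : Nonempty Ω := ⟨a⟩
  have hepos : 0 < D.index := Nat.pos_of_ne_zero Subgroup.index_ne_zero_of_finite
  have hn2 : 2 ≤ Nat.card Ω := hn ▸ hr.two_le.trans (Nat.le_self_pow hk.ne' r)
  obtain ⟨S, X, hSD, hSp, hX, hXa, hXS, hcard, hstab⟩ := h.exists_good_sylow r a
  have hD : Nat.card Ω * Nat.card ↥(D ⊓ stabilizer G a) = Nat.card D := by
    rw [← card_orbit_mul D a]
    congr 1
    rw [show orbit D a = Set.univ from Set.eq_univ_of_forall fun b => by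
      obtain ⟨d, hd, hdb⟩ := h.trans a b
      exact ⟨⟨d, hd⟩, hdb⟩, Set.ncard_univ]
  have horb : (orbit S a).ncard = Nat.card Ω := by
    refine Nat.eq_of_mul_eq_mul_right (Nat.card_pos (α := ↥(S ⊓ stabilizer G a))) ?_
    rw [card_orbit_mul, hcard, hstab, ← hD, Nat.factorization_mul Nat.card_pos.ne' Nat.card_pos.ne',
      Finsupp.add_apply, pow_add, hn, hr.factorization_pow, Finsupp.single_eq_same]
  have honto : ∀ b : Ω, ∃ s ∈ S, s • a = b := fun b => by
    have h1 : orbit S a = Set.univ :=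
      Set.eq_of_subset_of_ncard_le (Set.subset_univ _) (by rw [horb, Set.ncard_univ]) (Set.toFinite _)
    obtain ⟨⟨s, hs⟩, hsb⟩ := h1.ge (Set.mem_univ b)
    exact ⟨s, hs, hsb⟩
  have hedvd : D.index ∣ Nat.card Ω - 1 := by
    rw [← Set.ncard_univ]
    exact h.dvd_sub hX hXa _ (Set.mem_univ a) fun _ _ _ _ => Set.mem_univ _
  -- invariant subgroups
  have hinv : ∀ U : Subgroup G, U ≤ S → S ⊓ stabilizer G a ≤ U → X ≤ Subgroup.normalizer (U : Set G) →
      U = S ⊓ stabilizer G a ∨ U = S := by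
    intro U hUS hUa hXU
    have h0 : U ⊓ stabilizer G a = S ⊓ stabilizer G a :=
      le_antisymm (inf_le_inf_right _ hUS) (le_inf hUa inf_le_right)
    have h1 : D.index ∣ (orbit U a).ncard - 1 := h.dvd_sub hX hXa _ (mem_orbit_self a) (by
      rintro x hx _ ⟨⟨u, hu⟩, rfl⟩
      refine ⟨⟨x * u * x⁻¹, (Subgroup.mem_normalizer_iff.1 (hXU hx) u).1 hu⟩, ?_⟩
      show (x * u * x⁻¹) • a = x • u • a
      rw [mul_smul, mul_smul, mem_stabilizer_iff.1 (inv_mem (hXa hx))])
    obtain ⟨t, ht⟩ : (orbit U a).ncard ∣ Nat.card Ω := by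
      rw [← horb, ← Nat.mul_dvd_mul_iff_right (Nat.card_pos (α := ↥(S ⊓ stabilizer G a))), card_orbit_mul, ← h0,
        card_orbit_mul]
      exact Subgroup.card_dvd_of_le hUS
    have hU := card_orbit_mul U a
    rw [h0] at hU
    rcases Nat.lt_or_ge (orbit U a).ncard 2 with h2 | h2
    · left
      refine (Subgroup.eq_of_le_of_card_ge hUa ?_).symm
      rw [← hU]
      exact (Nat.mul_le_mul_right _ (Nat.le_of_lt_succ h2)).trans_eq (one_mul _)
    rcases Nat.lt_or_ge t 2 with h3 | h3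
    · right
      refine Subgroup.eq_of_le_of_card_ge hUS ?_
      rw [← hU, ← card_orbit_mul S a, horb, ht]
      exact Nat.mul_le_mul_right _ ((Nat.mul_le_mul_left _ (Nat.le_of_lt_succ h3)).trans_eq (mul_one _))
    exact absurd (small_of_dvd h2 h3 hepos h1 (ht ▸ hedvd)) (not_le.2 (ht ▸ hbig))
  -- the stabiliser in `S` is trivial
  have hSa : S ⊓ stabilizer G a = ⊥ := by
    set A := S ⊓ stabilizer G a with hA
    have hXA : X ≤ Subgroup.normalizer (A : Set G) := fun x hx => by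
      have h1 := Subgroup.mem_normalizer_iff.1 (hXS hx)
      refine Subgroup.mem_normalizer_iff.2 fun c => ?_
      simp only [A, Subgroup.mem_inf]
      refine and_congr (h1 c) ⟨fun hc => mul_mem (mul_mem (hXa hx) hc) (inv_mem (hXa hx)), fun hc => ?_⟩
      simpa [mul_assoc] using mul_mem (mul_mem (inv_mem (hXa hx)) hc) (hXa hx)
    have hXU : X ≤ Subgroup.normalizer ((S ⊓ Subgroup.normalizer (A : Set G) : Subgroup G) : Set G) := fun x hx => by
      have h1 := Subgroup.mem_normalizer_iff.1 (hXS hx)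
      refine Subgroup.mem_normalizer_iff.2 fun c => ?_
      simp only [Subgroup.mem_inf]
      refine and_congr (h1 c) ⟨fun hc => mul_mem (mul_mem (hXA hx) hc) (inv_mem (hXA hx)), fun hc => ?_⟩
      simpa [mul_assoc] using mul_mem (mul_mem (inv_mem (hXA hx)) hc) (hXA hx)
    rcases hinv _ inf_le_left (le_inf inf_le_left Subgroup.le_normalizer) hXU with e | e
    · have hlt : A.subgroupOf S < ⊤ := lt_top_iff_ne_top.2 fun e' => by
        have h1 : S ≤ A := Subgroup.subgroupOf_eq_top.1 e'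
        have h2 := card_orbit_mul S a
        rw [horb, ← hA, show A = S from le_antisymm inf_le_left h1] at h2
        have := Nat.mul_le_mul_right (Nat.card S) hn2
        have := Nat.card_pos (α := S)
        omega
      haveI : Group.IsNilpotent S := hSp.isNilpotent
      obtain ⟨q, hq, hqA⟩ := SetLike.exists_of_lt (Group.normalizerCondition_of_isNilpotent _ hlt)
      refine absurd ?_ hqA
      show (q : G) ∈ A
      rw [← e]
      refine ⟨q.2, Subgroup.mem_normalizer_iff.2 fun c => ⟨fun hc => ?_, fun hc => ?_⟩⟩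
      · exact (Subgroup.mem_normalizer_iff.1 hq ⟨c, (inf_le_left : A ≤ S) hc⟩).1 hc
      · have hc' : c ∈ S := by
          simpa [mul_assoc] using mul_mem (mul_mem (inv_mem q.2) ((inf_le_left : A ≤ S) hc)) q.2
        exact (Subgroup.mem_normalizer_iff.1 hq ⟨c, hc'⟩).2 hc
    · refine (Subgroup.eq_bot_iff_forall _).2 fun g hg => eq_of_smul_eq_smul fun b : Ω => ?_
      obtain ⟨s, hs, rfl⟩ := honto b
      have hsN : s ∈ Subgroup.normalizer (A : Set G) := (e.ge hs).2
      have h1 : s⁻¹ * g * s ∈ A := by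
        have := (Subgroup.mem_normalizer_iff.1 (inv_mem hsN) g).1 hg
        rwa [inv_inv] at this
      rw [one_smul]
      calc g • s • a = s • (s⁻¹ * g * s) • a := by simp [mul_smul]
        _ = s • a := by rw [mem_stabilizer_iff.1 h1.2]
  have hfree : ∀ s ∈ S, s • a = a → s = 1 := fun s hs hsa => Subgroup.mem_bot.1 (hSa ▸ ⟨hs, hsa⟩)
  have hScard : Nat.card S = Nat.card Ω := by
    rw [← card_orbit_mul S a, horb, hSa, Subgroup.card_bot, mul_one]
  have hirr : ∀ U : Subgroup G, U ≤ S → X ≤ Subgroup.normalizer (U : Set G) → U = ⊥ ∨ U = S := fun U h1 h2 =>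
    hSa ▸ hinv U h1 (hSa ▸ bot_le) h2
  -- abelian
  have hcomm : ∀ s ∈ S, ∀ t ∈ S, s * t = t * s := by
    haveI : Nontrivial S := by
      rw [← Finite.one_lt_card_iff_nontrivial, hScard]; omega
    haveI := hSp.center_nontrivial
    set Z := (Subgroup.center S).map S.subtype
    have hZ : ∀ z, z ∈ Z ↔ z ∈ S ∧ ∀ s ∈ S, s * z = z * s := fun z => by
      constructor
      · rintro ⟨z, hz, rfl⟩
        exact ⟨z.2, fun s hs => congrArg (fun q : S => (q : G)) (Subgroup.mem_center_iff.1 hz ⟨s, hs⟩)⟩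
      · rintro ⟨hz, hc⟩
        exact ⟨⟨z, hz⟩, Subgroup.mem_center_iff.2 fun s => Subtype.ext (hc s s.2), rfl⟩
    have hconj : ∀ x ∈ X, ∀ c ∈ Z, x * c * x⁻¹ ∈ Z := fun x hx c hc => by
      have h1 := Subgroup.mem_normalizer_iff.1 (hXS hx)
      refine (hZ _).2 ⟨(h1 c).1 ((hZ c).1 hc).1, fun s hs => ?_⟩
      have h2 := ((hZ c).1 hc).2 (x⁻¹ * s * x) ((h1 _).2 (by simpa [mul_assoc] using hs))
      calc s * (x * c * x⁻¹) = x * ((x⁻¹ * s * x) * c) * x⁻¹ := by group
        _ = x * (c * (x⁻¹ * s * x)) * x⁻¹ := by rw [h2]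
        _ = _ := by group
    rcases hirr Z (Subgroup.map_subtype_le _) (fun x hx => Subgroup.mem_normalizer_iff.2 fun c =>
        ⟨hconj x hx c, fun hc => by simpa [mul_assoc] using hconj x⁻¹ (inv_mem hx) _ hc⟩) with e | e
    · exfalso
      rw [Subgroup.map_eq_bot_iff_of_injective _ S.subtype_injective] at e
      exact not_nontrivial_iff_subsingleton.2 (by rw [e]; infer_instance) ‹Nontrivial (Subgroup.center S)›
    · exact fun s hs t ht => ((hZ t).1 (e ▸ ht)).2 s hs
  -- semiregular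
  set K := kerStab D S a
  let X₀ := Subgroup.normalizer (S : Set G) ⊓ stabilizer G a
  letI : CommGroup S := { (inferInstance : Group S) with mul_comm := fun s t => Subtype.ext (hcomm s s.2 t t.2) }
  letI act : MulDistribMulAction X₀ S := MulDistribMulAction.compHom S
    ((Subgroup.normalizerMonoidHom S).comp (Subgroup.inclusion inf_le_left))
  have hsmul : ∀ (x : X₀) (s : S), ((x • s : S) : G) = (x : G) * s * (x : G)⁻¹ := fun x s => rfl
  have hX₀ : X₀ ⊔ D = ⊤ := top_le_iff.1 (hX ▸ sup_le_sup_right (le_inf hXS hXa) D)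
  have hKeq : K.subgroupOf X₀ = D.subgroupOf X₀ := by
    ext x
    simp only [Subgroup.mem_subgroupOf, K, mem_kerStab]
    exact ⟨fun hx => hx.1, fun hx => ⟨hx, x.2.1, x.2.2⟩⟩
  have hidx : (K.subgroupOf X₀).index = D.index := by
    rw [hKeq, ← Subgroup.relIndex, ← Subgroup.relIndex_sup_right, hX₀, Subgroup.relIndex_top_right]
  have hDa : ¬ r ∣ Nat.card ↥(D ⊓ stabilizer G a) := fun hd => by
    have h1 := hr.factorization_pos_of_dvd Nat.card_pos.ne' hd
    rw [hSa, Subgroup.card_bot] at hstab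
    have h2 : (Nat.card ↥(D ⊓ stabilizer G a)).factorization r = 0 :=
      (Nat.pow_eq_one.1 hstab.symm).resolve_left hr.ne_one
    omega
  have hlin : Lin (K.subgroupOf X₀) S := by
    refine ⟨hKeq ▸ inferInstance, fun x hx v hv => ?_, fun x hx hfix => ?_, ?_, ?_⟩
    · have hxD : (x : G) ∉ D := fun e => hx (hKeq ▸ Subgroup.mem_subgroupOf.2 e)
      refine Subtype.ext (hfree v v.2 (h.uniq x hxD ((v : G) • a) a ?_ x.2.2))
      have h1 : (x : G) * v * (x : G)⁻¹ = v := (hsmul x v).symm.trans (congrArg Subtype.val hv)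
      rw [← mul_smul, mul_inv_eq_iff_eq_mul.1 h1, mul_smul, mem_stabilizer_iff.1 x.2.2]
    · refine Subtype.ext (eq_one_of_commute_trans honto (mem_stabilizer_iff.1 x.2.2) fun s hs => ?_)
      exact mul_inv_eq_iff_eq_mul.1 ((hsmul x ⟨s, hs⟩).symm.trans (congrArg Subtype.val (hfix ⟨s, hs⟩)))
    · rw [hScard, hn]
      refine Nat.Coprime.pow_right _ ((hr.coprime_iff_not_dvd.2 fun hd => hDa ?_).symm)
      refine hd.trans ((Subgroup.card_dvd_of_injective ((Subgroup.subtype X₀).comp (K.subgroupOf X₀).subtype |>.codRestrict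
        (D ⊓ stabilizer G a) fun x => ?_) ?_))
      · exact ⟨(mem_kerStab.1 (Subgroup.mem_subgroupOf.1 x.2)).1, (x : X₀).2.2⟩
      · exact fun x y e => Subtype.ext (Subtype.ext (congrArg (fun q : ↥(D ⊓ stabilizer G a) => (q : G)) e))
    · rw [hidx, hScard]; exact hbig
  have hsemireg : ∀ k ∈ K, ∀ s ∈ S, k * s = s * k → k = 1 ∨ s = 1 := fun k hk s hs hc => by
    have hk' := mem_kerStab.1 hk
    rcases hlin.sr ⟨k, hk'.2.1, hk'.2.2⟩ hk ⟨s, hs⟩ (Subtype.ext (by
      rw [hsmul]; exact mul_inv_eq_iff_eq_mul.2 hc)) with e | e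
    · exact Or.inl (congrArg Subtype.val e)
    · exact Or.inr (congrArg Subtype.val e)
  refine ⟨S, X, h, hSD, hcomm, hfree, honto, hX, hXa, hXS, hirr, hsemireg, fun u hu hu1 c hcD hc => ?_, hbig⟩
  -- centralisers
  let C := D ⊓ Subgroup.centralizer {u}
  have hSC : S ≤ C := le_inf hSD fun s hs => Subgroup.mem_centralizer_singleton_iff.2 (hcomm s hs u hu)
  let P₀ : Subgroup C := S.subgroupOf C
  have hP₀ : Nat.card P₀ = Nat.card S := Nat.card_congr (Subgroup.subgroupOfEquivOfLe hSC).toEquiv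
  have hfact : (Nat.card C).factorization r = (Nat.card D).factorization r := by
    refine le_antisymm ?_ ?_
    · exact (Nat.factorization_le_iff_dvd Nat.card_pos.ne' Nat.card_pos.ne').2
        (Subgroup.card_dvd_of_le inf_le_left) r
    · refine (hr.pow_dvd_iff_le_factorization Nat.card_pos.ne').1 ?_
      rw [← hcard]
      exact Subgroup.card_dvd_of_le hSC
  let P : Sylow r C := Sylow.ofCard P₀ (by rw [hP₀, hcard, hfact])
  have hPN : Subgroup.normalizer ((P : Subgroup C) : Set C) ≤ Subgroup.centralizer ((P : Subgroup C) : Set C) := by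
    intro x hx
    rw [Sylow.coe_ofCard] at hx ⊢
    obtain ⟨s, hs, hsx⟩ := honto ((x : G) • a)
    have hxN : (x : G) ∈ Subgroup.normalizer (S : Set G) := Subgroup.mem_normalizer_iff.2 fun c => by
      constructor
      · intro hc
        exact (Subgroup.mem_normalizer_iff.1 hx ⟨c, hSC hc⟩).1 (Subgroup.mem_subgroupOf.2 hc)
      · intro hc
        have hcC : c ∈ C := by simpa [mul_assoc] using mul_mem (mul_mem (inv_mem x.2) (hSC hc)) x.2
        exact (Subgroup.mem_normalizer_iff.1 hx ⟨c, hcC⟩).2 (Subgroup.mem_subgroupOf.2 hc)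
    have hxu : (x : G) * u = u * x := Subgroup.mem_centralizer_singleton_iff.1 x.2.2
    have hk : s⁻¹ * x ∈ K := mem_kerStab.2
      ⟨mul_mem (inv_mem (hSD hs)) x.2.1, mul_mem (inv_mem (Subgroup.le_normalizer hs)) hxN,
        by rw [mul_smul, ← hsx, inv_smul_smul]⟩
    rcases hsemireg _ hk u hu (by
      rw [mul_assoc, hxu, ← mul_assoc, ← mul_assoc, hcomm s⁻¹ (inv_mem hs) u hu]) with e | e
    · refine Subgroup.mem_centralizer_iff.2 fun p hp => Subtype.ext ?_
      show (p : G) * x = x * p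
      rw [← inv_mul_eq_one.1 e]
      exact hcomm p (Subgroup.mem_subgroupOf.1 hp) s hs
    · exact absurd e hu1
  set O := (MonoidHom.transferSylow P hPN).ker with hO
  have hcompl := MonoidHom.ker_transferSylow_isComplement' P hPN
  have hOcop : ¬ r ∣ Nat.card O := MonoidHom.not_dvd_card_ker_transferSylow P hPN
  -- the orbit of the complement
  let U : Subgroup G :=
    { carrier := {s | s ∈ S ∧ s • a ∈ orbit O a}
      one_mem' := ⟨S.one_mem, by rw [one_smul]; exact mem_orbit_self a⟩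
      mul_mem' := fun {s t} hs ht => ⟨mul_mem hs.1 ht.1, by
        obtain ⟨o, ho⟩ := ht.2
        obtain ⟨o', ho'⟩ := hs.2
        have hno : (⟨s, hSC hs.1⟩ : C) * o * (⟨s, hSC hs.1⟩ : C)⁻¹ ∈ O := (inferInstance : O.Normal).conj_mem _ o.2 _
        refine ⟨⟨_, hno⟩ * o', ?_⟩
        have ho : ((o : C) : G) • a = t • a := ho
        have ho' : ((o' : C) : G) • a = s • a := ho'
        show ((((⟨s, hSC hs.1⟩ : C) * o * (⟨s, hSC hs.1⟩ : C)⁻¹ * o' : C)) : G) • a = (s * t) • a
        simp only [Subgroup.coe_mul, Subgroup.coe_inv, mul_smul]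
        rw [ho', inv_smul_smul, ho]⟩
      inv_mem' := fun {s} hs => ⟨inv_mem hs.1, by
        obtain ⟨o, ho⟩ := hs.2
        have ho : ((o : C) : G) • a = s • a := ho
        have hno : (⟨s, hSC hs.1⟩ : C)⁻¹ * (o : C)⁻¹ * (⟨s, hSC hs.1⟩ : C) ∈ O := by
          have := (inferInstance : O.Normal).conj_mem _ (inv_mem o.2) (⟨s, hSC hs.1⟩ : C)⁻¹
          rwa [inv_inv] at this
        refine ⟨⟨_, hno⟩, ?_⟩
        show ((((⟨s, hSC hs.1⟩ : C)⁻¹ * (o : C)⁻¹ * (⟨s, hSC hs.1⟩ : C) : C)) : G) • a = s⁻¹ • a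
        simp only [Subgroup.coe_mul, Subgroup.coe_inv, mul_smul]
        rw [← ho, inv_smul_smul]⟩ }
  have hUorb : Nat.card U = (orbit O a).ncard := by
    rw [← Nat.card_coe_set_eq]
    refine Nat.card_congr (Equiv.ofBijective (fun s : U => (⟨(s : G) • a, s.2.2⟩ : orbit O a)) ⟨fun s t e => ?_, fun y => ?_⟩)
    · have e : (s : G) • a = (t : G) • a := congrArg Subtype.val e
      have h2 := hfree _ (mul_mem (inv_mem s.2.1) t.2.1) (by rw [mul_smul, ← e, inv_smul_smul])
      exact Subtype.ext (inv_mul_eq_one.1 h2)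
    · obtain ⟨s, hs, hsy⟩ := honto y
      exact ⟨⟨s, hs, hsy ▸ y.2⟩, Subtype.ext hsy⟩
  have h1 : (orbit O a).ncard = 1 := by
    have h2 : (orbit O a).ncard ∣ Nat.card O := by
      rw [← MulAction.index_stabilizer]; exact Subgroup.index_dvd_card _
    have h3 : (orbit O a).ncard ∣ r ^ k := by
      rw [← hn, ← hScard, ← hUorb]; exact Subgroup.card_dvd_of_le fun s hs => hs.1
    exact Nat.eq_one_of_dvd_coprimes ((hr.coprime_iff_not_dvd.2 hOcop).symm.pow_right k) h2 h3
  have hObot : O = ⊥ := (Subgroup.eq_bot_iff_forall _).2 fun o ho => by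
    refine Subtype.ext (eq_of_smul_eq_smul fun b : Ω => ?_)
    obtain ⟨s, hs, rfl⟩ := honto b
    obtain ⟨w, hw⟩ := Set.ncard_eq_one.1 h1
    have hfixa : ∀ o' : O, ((o' : C) : G) • a = a := fun o' => by
      have h3 : ((o' : C) : G) • a ∈ orbit O a := ⟨o', rfl⟩
      have h4 : a ∈ orbit O a := mem_orbit_self a
      rw [hw] at h3 h4
      exact h3.trans h4.symm
    have h4 := hfixa ⟨(⟨s, hSC hs⟩ : C)⁻¹ * o * (⟨s, hSC hs⟩ : C), by
      have := (inferInstance : O.Normal).conj_mem o ho (⟨s, hSC hs⟩ : C)⁻¹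
      rwa [inv_inv] at this⟩
    simp only [Subgroup.coe_mul, Subgroup.coe_inv, mul_smul, inv_smul_eq_iff] at h4
    rw [h4]
    exact (one_smul G (s • a)).symm
  rw [← hO, hObot] at hcompl
  have htop : (P : Subgroup C) = ⊤ := Subgroup.isComplement'_bot_left.1 hcompl
  rw [Sylow.coe_ofCard] at htop
  exact Subgroup.subgroupOf_eq_top.1 htop ⟨hcD, Subgroup.mem_centralizer_singleton_iff.2 hc⟩

end Cfsg.Agent.Perm.Derange
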